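import Groth.Agent.Lefpen.H712.HredH
import Groth.Agent.Lefpen.H712.EH
import Groth.Agent.Lefpen.H710.EllSys

/-!
# The ℓ-adic Betti numbers of isomorphic schemes
-/

set_option autoImplicit false
universe u v w
open CategoryTheory CategoryTheory.Limits AlgebraicGeometry
open Groth.Agent.Lefpen.H710.EllSys

namespace K440.BettiIso

theorem card_congr {A : Type v} {B : Type w} [AddCommGroup A] [AddCommGroup B] (E : A ≃+ B) (n : ℤ) :
    Nat.card (A ⧸ (zsmulAddGroupHom n : A →+ A).range) = Nat.card (B ⧸ (zsmulAddGroupHom n : B →+ B).range) ∧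
      Nat.card (zsmulAddGroupHom n : A →+ A).ker = Nat.card (zsmulAddGroupHom n : B →+ B).ker := by
  constructor
  · refine Nat.card_congr (QuotientAddGroup.congr _ _ E ?_).toEquiv
    ext b
    constructor
    · rintro ⟨_, ⟨a, rfl⟩, rfl⟩
      exact ⟨E a, (map_zsmul E n a).symm⟩
    · rintro ⟨b, rfl⟩
      refine ⟨n • E.symm b, ⟨E.symm b, rfl⟩, ?_⟩
      change E (n • E.symm b) = n • b
      rw [map_zsmul, AddEquiv.apply_symm_apply]
  · refine Nat.card_congr (Equiv.subtypeEquiv E.toEquiv fun a => ?_)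
    change n • a = 0 ↔ n • E a = 0
    rw [← map_zsmul, map_eq_zero_iff E E.injective]

section Generic

variable (ℓ : ℕ) {G G' : ℕ → Type v} [∀ ν, AddCommGroup (G ν)] [∀ ν, AddCommGroup (G' ν)]
  {ρ : ∀ ν, G (ν + 1) →+ G ν} {ρ' : ∀ ν, G' (ν + 1) →+ G' ν} (h : ∀ ν, G ν ≃+ G' ν)
  (hh : ∀ ν x, h ν (ρ ν x) = ρ' ν (h (ν + 1) x))

/-- The isomorphism of the limits. -/
noncomputable def lIso : HlG G ρ ≃+ HlG G' ρ' where
  toFun x := ⟨fun ν => h ν (x.1 ν), (mem_HlG G' ρ' _).mpr fun ν => by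
    have h1 := (mem_HlG G ρ _).mp x.2 ν
    rw [← hh, h1]⟩
  invFun x := ⟨fun ν => (h ν).symm (x.1 ν), (mem_HlG G ρ _).mpr fun ν => by
    have h1 := (mem_HlG G' ρ' _).mp x.2 ν
    apply (h ν).injective
    rw [hh, AddEquiv.apply_symm_apply, AddEquiv.apply_symm_apply, h1]⟩
  left_inv x := Subtype.ext (funext fun ν => (h ν).symm_apply_apply _)
  right_inv x := Subtype.ext (funext fun ν => (h ν).apply_symm_apply _)
  map_add' x y := Subtype.ext (funext fun ν => map_add (h ν) _ _)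

include h hh in
theorem bettiG_congr : bettiG ℓ G ρ = bettiG ℓ G' ρ' := by
  obtain ⟨h1, h2⟩ := card_congr (lIso h hh) (ℓ : ℤ)
  unfold bettiG
  rw [h1, h2]

end Generic

section Iso

open scoped Groth.Agent.Etcore.EtInst
open Groth.Agent.Etcore.EtInst Groth.Agent.Etcore.HpullCalc Groth.Agent.Etcore.HC

variable {X Y : Scheme.{u}} (e : X ≅ Y) (ℓ i : ℕ)

theorem HC_inv_hom (M : Type) [AddCommGroup M] (x : HH Y (EtCoh.const Y M) i) :
    HC M e.inv i (HC M e.hom i x) = x :=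
  (HC_HC M e.inv e.hom (𝟙 Y) e.inv_hom_id i x).trans (HC_id M i x)

/-- The isomorphism on cohomology with constant coefficients. -/
noncomputable def hIso (M : Type) [AddCommGroup M] : HH Y (EtCoh.const Y M) i ≃+ HH X (EtCoh.const X M) i where
  toFun := HC M e.hom i
  invFun := HC M e.inv i
  left_inv := HC_inv_hom e i M
  right_inv := HC_inv_hom e.symm i M
  map_add' := map_add _

theorem red_hIso (ν : ℕ) (x : HH Y (EtCoh.const Y (ZMod (ℓ ^ (ν + 1)))) i) :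
    HHmap (EtAdic.red X ℓ ν) i (hIso e i _ x) = hIso e i _ (HHmap (EtAdic.red Y ℓ ν) i x) :=
  Groth.Agent.Lefpen.H712.HredH.red_hp ℓ e.hom i ν x

end Iso

section Final

open Groth.Agent.Etcore.EtInst (HH HHmap)
open Groth.Agent.Lefpen.H712.EH

theorem eM_Hred' (X : Scheme.{u}) (ℓ i ν : ℕ) (x : EtAdic.Hmod X ℓ i (ν + 1)) :
    eM X ℓ i ν (EtAdic.Hred X ℓ i ν x) = HHmap (EtAdic.red X ℓ ν) i (eM X ℓ i (ν + 1) x) := rfl

variable {X Y : Scheme.{u}} (e : X ≅ Y) (ℓ i : ℕ)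

/-- The isomorphism on cohomology with finite coefficients. -/
noncomputable def mIso (ν : ℕ) : EtAdic.Hmod Y ℓ i ν ≃+ EtAdic.Hmod X ℓ i ν :=
  (eM Y ℓ i ν).trans ((hIso e i (ZMod (ℓ ^ ν))).trans (eM X ℓ i ν).symm)

theorem eM_mIso (ν : ℕ) (x : EtAdic.Hmod Y ℓ i ν) :
    eM X ℓ i ν (mIso e ℓ i ν x) = hIso e i (ZMod (ℓ ^ ν)) (eM Y ℓ i ν x) :=
  (eM X ℓ i ν).apply_symm_apply _

theorem mIso_Hred (ν : ℕ) (x : EtAdic.Hmod Y ℓ i (ν + 1)) :
    mIso e ℓ i ν (EtAdic.Hred Y ℓ i ν x) = EtAdic.Hred X ℓ i ν (mIso e ℓ i (ν + 1) x) := by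
  apply (eM X ℓ i ν).injective
  rw [eM_mIso, eM_Hred', eM_Hred', eM_mIso, red_hIso]

include e in
/-- Isomorphic schemes have the same Betti numbers. -/
theorem betti_eq : EtAdic.betti X ℓ i = EtAdic.betti Y ℓ i := by
  have h1 : ∀ Z : Scheme.{u}, EtAdic.betti Z ℓ i =
      bettiG ℓ (fun ν => EtAdic.Hmod Z ℓ i ν) (fun ν => EtAdic.Hred Z ℓ i ν) := fun Z => rfl
  rw [h1, h1]
  exact (bettiG_congr ℓ (mIso e ℓ i) (mIso_Hred e ℓ i)).symm

end Final

end K440.BettiIso
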