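import Groth.Agent.S4450
import Groth.Agent.S0549

/-!
# Specializations in a locally Noetherian scheme are dominated by complete discrete valuation rings
-/

set_option autoImplicit false
universe u

open CategoryTheory CategoryTheory.Limits AlgebraicGeometry Opposite IsLocalRing

namespace K440.CompleteDvr

theorem exists_lift {F K C : Type u} [Field F] (A : ValuationSubring F) [CommRing C] [Field K] (c : A →+* C)
    (hc : Function.Injective c) (φ : C →+* K) (hφ : Function.Injective φ) :
    ∃ l : F →+* K, l.comp A.subtype = φ.comp c := by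
  have h : Function.Injective (φ.comp c) := hφ.comp hc
  refine ⟨IsFractionRing.lift (A := A) (K := F) (g := φ.comp c) h, ?_⟩
  ext x
  exact IsFractionRing.lift_algebraMap h x

theorem exists_completion (A : Type u) [CommRing A] [IsDomain A] [IsDiscreteValuationRing A] :
    ∃ (C : Type u) (_ : CommRing C) (_ : IsDomain C) (_ : IsDiscreteValuationRing C)
      (_ : IsAdicComplete (maximalIdeal C) C) (c : A →+* C), Function.Injective c ∧ IsLocalHom c := by
  obtain ⟨hd, hC⟩ := (Groth.Agent.S0549.result A).mp ⟨inferInstance, inferInstance⟩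
  have hl : IsLocalHom (algebraMap A (AdicCompletion (maximalIdeal A) A)) := inferInstance
  have hH : IsHausdorff (maximalIdeal A) A := inferInstance
  exact ⟨AdicCompletion (maximalIdeal A) A, inferInstance, hd, hC, inferInstance,
    algebraMap A (AdicCompletion (maximalIdeal A) A), AdicCompletion.of_injective (maximalIdeal A) A, hl⟩

theorem exists_dvr {S : Scheme.{u}} [IsLocallyNoetherian S] {s₁ s₀ : S} (hs : s₁ ⤳ s₀) (hne : s₀ ≠ s₁) :
    ∃ (C : Type u) (_ : CommRing C) (_ : IsDomain C) (_ : IsDiscreteValuationRing C)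
      (_ : IsAdicComplete (maximalIdeal C) C) (g : Spec (CommRingCat.of C) ⟶ S), g (closedPoint C) = s₀ ∧
        ∀ (K : Type u) [Field K] (φ : C →+* K), Function.Injective φ →
          (Spec.map (CommRingCat.ofHom φ) ≫ g) (closedPoint K) = s₁ := by
  obtain ⟨A, h, hA, hcl, hgen⟩ := Groth.Agent.S4450.result (𝟙 S) s₁ s₀ hs hne
  obtain ⟨C, _, _, _, hC, c, hc, hloc⟩ := exists_completion A
  refine ⟨C, inferInstance, inferInstance, inferInstance, hC, Spec.map (CommRingCat.ofHom c) ≫ h, ?_, ?_⟩
  · have h2 : Spec.map (CommRingCat.ofHom c) (closedPoint C) = closedPoint A := by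
      apply PrimeSpectrum.ext
      ext x
      change c x ∈ maximalIdeal C ↔ x ∈ maximalIdeal A
      rw [mem_maximalIdeal, mem_maximalIdeal, mem_nonunits_iff, mem_nonunits_iff, isUnit_map_iff]
    rw [Scheme.Hom.comp_apply, h2]
    exact hcl
  · intro K _ φ hφ
    obtain ⟨l, hl⟩ := exists_lift A c hc φ hφ
    have h2 : Spec.map (CommRingCat.ofHom φ) ≫ Spec.map (CommRingCat.ofHom c) ≫ h =
        Spec.map (CommRingCat.ofHom l) ≫ S.fromSpecResidueField s₁ := by
      have h3 : Spec.map (CommRingCat.ofHom l) ≫ Spec.map (CommRingCat.ofHom A.subtype) =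
          Spec.map (CommRingCat.ofHom φ) ≫ Spec.map (CommRingCat.ofHom c) := by
        rw [← Spec.map_comp, ← Spec.map_comp, ← CommRingCat.ofHom_comp, ← CommRingCat.ofHom_comp, hl]
      rw [Category.comp_id] at hgen
      rw [← hgen, ← Category.assoc, ← Category.assoc, h3]
    rw [h2, Scheme.Hom.comp_apply]
    exact Scheme.fromSpecResidueField_apply _ _

end K440.CompleteDvr
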