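import Groth.Agent.Biell.K440.FibIso
import Groth.Agent.S16760
import Groth.Agent.S16759
import Groth.Agent.S15539
import Groth.Agent.S8124
import Groth.Agent.Biell.K440.CompleteDvr
import Groth.Agent.S2533
import Groth.Agent.Sga67.TensorOps
import Groth.Agent.Canon.K769.EvalRow
import Groth.Agent.Ega3A.PicInt

/-!
# Families of bielliptic surfaces: the order of the canonical sheaf is locally constant

* `T1`: `ω⁴` or `ω⁶` is trivial for bielliptic surfaces over algebraically closed fields with `6 ≠ 0`.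
* `Ord`: the order of the canonical sheaf is constant in a family over a complete discrete valuation ring.
* `exists_pullback`: S15378 from `T1` and `Ord`.
-/

set_option autoImplicit false
universe u

open CategoryTheory CategoryTheory.Limits AlgebraicGeometry Opposite IsLocalRing
open Groth.Agent.Grpsch.PicGrp

namespace K440.Fam

/-- `ω⁴` or `ω⁶` is trivial. -/
def T1 : Prop := ∀ (k : Type u) [Field k] [IsAlgClosed k] (X : Scheme.{u}) [X.Over (Spec (CommRingCat.of k))]
    [IsIntegral X] [IsProper (X ↘ Spec (CommRingCat.of k))] [SmoothOfRelativeDimension 2 (X ↘ Spec (CommRingCat.of k))]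
    (_ : ∃ H : X.Modules, CohB1.IsAmple H)
    (ω : X.Modules) (_ : Canon.IsTopDiff (X ↘ Spec (CommRingCat.of k)) 2 ω) (_ : Pic13.IsNumEquivZero k X ω)
    (_ : ∀ ℓ : ℕ, ℓ.Prime → (ℓ : k) ≠ 0 → EtAdic.betti X ℓ 2 = 2) (_ : (6 : k) ≠ 0),
    Nonempty (CohB1.tensorPow ω 4 ≅ Coh.structureModule X) ∨ Nonempty (CohB1.tensorPow ω 6 ≅ Coh.structureModule X)

/-- The order of the canonical sheaf is the same on the geometric generic and special fibres. -/
def Ord : Prop := ∀ (R : Type u) [CommRing R] [IsDomain R] [IsDiscreteValuationRing R]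
    [IsAdicComplete (IsLocalRing.maximalIdeal R) R] (_ : IsUnit (6 : R))
    (X : Scheme.{u}) (f : X ⟶ Spec (CommRingCat.of R)) [IsProper f] [SmoothOfRelativeDimension 2 f]
    (_ : Fib f)
    (K : Type u) [Field K] [IsAlgClosed K] (φ : R →+* K) (_ : Function.Injective φ)
    (κ : Type u) [Field κ] [IsAlgClosed κ] (ψ : R →+* κ) (_ : ∀ x ∈ IsLocalRing.maximalIdeal R, ψ x = 0)
    (ωK : (pullback f (Spec.map (CommRingCat.ofHom φ))).Modules)
    (_ : Canon.IsTopDiff (pullback.snd f (Spec.map (CommRingCat.ofHom φ))) 2 ωK)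
    (ωκ : (pullback f (Spec.map (CommRingCat.ofHom ψ))).Modules)
    (_ : Canon.IsTopDiff (pullback.snd f (Spec.map (CommRingCat.ofHom ψ))) 2 ωκ) (n : ℕ),
    Nonempty (CohB1.tensorPow ωκ n ≅ Coh.structureModule (pullback f (Spec.map (CommRingCat.ofHom ψ)))) →
      Nonempty (CohB1.tensorPow ωK n ≅ Coh.structureModule (pullback f (Spec.map (CommRingCat.ofHom φ))))

section Triv

variable {X S : Scheme.{u}} (π : X ⟶ S)

/-- Integrality of all fibres from the geometric ones. -/
theorem geometricallyIntegral [QuasiCompact π]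
    (h : ∀ (Ω : Type u) [Field Ω] [IsAlgClosed Ω] (s : Spec (CommRingCat.of Ω) ⟶ S), IsIntegral (pullback π s)) :
    GeometricallyIntegral π := by
  constructor
  intro K _ y Z a b H
  let Ω := AlgebraicClosure K
  let t : Spec (CommRingCat.of Ω) ⟶ Spec (CommRingCat.of K) := Spec.map (CommRingCat.ofHom (algebraMap K Ω))
  have h1 := h Ω (t ≫ y)
  have H1 : IsPullback (pullback.fst π (t ≫ y)) (pullback.snd π (t ≫ y)) π (t ≫ y) := IsPullback.of_hasPullback _ _
  have H2 := IsPullback.of_right' H1 H
  have h2 : Flat t := by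
    change Flat (Spec.map _)
    rw [HasRingHomProperty.Spec_iff (P := @Flat)]
    exact (RingHom.flat_algebraMap_iff).mpr inferInstance
  have h3 : Surjective t := ⟨fun x => ⟨closedPoint Ω, Subsingleton.elim _ _⟩⟩
  have w1 : pullback.fst π (t ≫ y) ≫ π = (pullback.snd π (t ≫ y) ≫ t) ≫ y := H1.w.trans (Category.assoc _ _ _).symm
  have h4 : Flat (H.lift (pullback.fst π (t ≫ y)) (pullback.snd π (t ≫ y) ≫ t) w1) :=
    MorphismProperty.of_isPullback H2.flip h2
  have h5 : Surjective (H.lift (pullback.fst π (t ≫ y)) (pullback.snd π (t ≫ y) ≫ t) w1) :=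
    MorphismProperty.of_isPullback H2.flip h3
  exact Groth.Agent.Ega3A.PicInt.isIntegral_of_flat_of_surjective (H.lift (pullback.fst π (t ≫ y))
    (pullback.snd π (t ≫ y) ≫ t) w1)

theorem triv_iff [IsProper π] [GeometricallyIntegral π] (c : Pic X) {K : Type u} [Field K]
    (s : Spec (CommRingCat.of K) ⟶ S) {P : Scheme.{u}} {a : P ⟶ X} {b : P ⟶ Spec (CommRingCat.of K)}
    (H : IsPullback a b π s) :
    pull a c = 1 ↔ pull (π.fiberι (s (closedPoint K))) c = 1 := by
  let y := s (closedPoint K)
  let r : S.residueField y ⟶ CommRingCat.of K := Scheme.descResidueField (Scheme.stalkClosedPointTo s)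
  let φ : Spec (CommRingCat.of K) ⟶ Spec (S.residueField y) := Spec.map r
  have hφ : φ ≫ S.fromSpecResidueField y = s :=
    Scheme.descResidueField_stalkClosedPointTo_fromSpecResidueField K S s
  have H0 : IsPullback (π.fiberι y) (π.fiberToSpecResidueField y) π (S.fromSpecResidueField y) :=
    IsPullback.of_hasPullback _ _
  have H1 : IsPullback a b π (φ ≫ S.fromSpecResidueField y) := by rwa [hφ]
  obtain ⟨l, h1, H2⟩ : ∃ l : P ⟶ π.fiber y, l ≫ π.fiberι y = a ∧
      IsPullback l b (π.fiberToSpecResidueField y) φ :=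
    ⟨_, H0.lift_fst _ _ _, IsPullback.of_right' H1 H0⟩
  let _ : Algebra (S.residueField y) K := r.hom.toAlgebra
  constructor
  · intro h
    obtain ⟨L, hL, rfl⟩ := exists_mk c
    have hL1 := Groth.Agent.Fdesc.LocGen.isInvertible_pullback (π.fiberι y) hL
    have hL2 := Groth.Agent.Fdesc.LocGen.isInvertible_pullback
      (pullback.fst (π.fiberToSpecResidueField y) φ) hL1
    have i1 : IsProper (π.fiberToSpecResidueField y) := inferInstanceAs (IsProper (pullback.snd _ _))
    have i2 : GeometricallyIntegral (π.fiberToSpecResidueField y) :=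
      inferInstanceAs (GeometricallyIntegral (pullback.snd _ _))
    refine (mk_eq_one_iff hL1).mpr ?_
    refine Groth.Agent.S8124.result (S.residueField y) (π.fiber y) (π.fiberToSpecResidueField y) _ hL1 K ?_
    refine (mk_eq_one_iff hL2).mp ?_
    have h2 : pull H2.isoPullback.inv (pull a (mk L hL)) =
        pull (pullback.fst (π.fiberToSpecResidueField y) φ) (pull (π.fiberι y) (mk L hL)) := by
      rw [← pull_comp, ← pull_comp, ← h1, ← Category.assoc, H2.isoPullback_inv_fst]
    rw [h, map_one] at h2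
    exact h2.symm
  · intro h
    rw [← h1, pull_comp]
    have h' : pull (π.fiberι y) c = 1 := h
    rw [h', map_one]

/-- Triviality of powers of the canonical sheaf of a fibre. -/
theorem canon_triv_iff [IsProper π] [SmoothOfRelativeDimension 2 π] [GeometricallyIntegral π] {ω : X.Modules}
    (hω : Canon.IsTopDiff π 2 ω) {K : Type u} [Field K]
    (s : Spec (CommRingCat.of K) ⟶ S) {P : Scheme.{u}} {a : P ⟶ X} {b : P ⟶ Spec (CommRingCat.of K)}
    (H : IsPullback a b π s) {ω' : P.Modules} (hω' : Canon.IsTopDiff b 2 ω') (n : ℕ) :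
    Nonempty (CohB1.tensorPow ω' n ≅ Coh.structureModule P) ↔
      Nonempty ((Scheme.Modules.pullback (π.fiberι (s (closedPoint K)))).obj (CohB1.tensorPow ω n) ≅
        Coh.structureModule (π.fiber (s (closedPoint K)))) := by
  have hinv : PicF.IsInvertible ω := K769.EvalRow.isInvertible_canonical π 2 hω
  have i1 : QuasiSeparated b := MorphismProperty.of_isPullback H inferInstance
  have h1 : ExtPow.IsExtPow 2 (Omega.sheaf b) ((Scheme.Modules.pullback a).obj ω) :=
    Groth.Agent.S15539.result X S P _ π b a s H 2 ω hω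
  obtain ⟨e⟩ := Groth.Agent.Sga67.TensorOps.nonempty_iso_of_isExtPow (Iso.refl _) h1 hω'
  have hinv1 := Groth.Agent.Fdesc.LocGen.isInvertible_pullback a hinv
  have hinv' : PicF.IsInvertible ω' := K769.EvalRow.isInvertible_of_iso e hinv1
  have h2 : mk ω' hinv' = pull a (mk ω hinv) := (mk_eq_iff _ _).mpr ⟨e.symm⟩
  have h3 := triv_iff π (mk ω hinv ^ n) s H
  have h4 : mk (CohB1.tensorPow ω' n) (Groth.Agent.Fdesc.LocGen.isInvertible_tensorPow hinv' n) =
      pull a (mk ω hinv ^ n) := by rw [mk_tensorPow hinv' n, h2, map_pow]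
  have h5 := mk_tensorPow hinv n
  rw [← h4, ← h5, pull_mk] at h3
  exact ((mk_eq_one_iff _).symm.trans h3).trans (mk_eq_one_iff _)

end Triv

/-- The locus where the `n`-th power of the canonical sheaf of the fibre is trivial is stable under
generization. -/
theorem stableUnderGeneralization (hOrd : Ord.{u}) {X S : Scheme.{u}} (π : X ⟶ S) [IsProper π]
    [SmoothOfRelativeDimension 2 π] [IsLocallyNoetherian S] (h6 : IsUnit (6 : Γ(S, ⊤))) (hfib : Fib π)
    (ω : X.Modules) (hω : Canon.IsTopDiff π 2 ω) (n : ℕ) :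
    StableUnderGeneralization {y : S | Nonempty ((Scheme.Modules.pullback (π.fiberι y)).obj
      (CohB1.tensorPow ω n) ≅ Coh.structureModule (π.fiber y))} := by
  have hgi : GeometricallyIntegral π := geometricallyIntegral π (fun Ω _ _ s => (hfib Ω s).1)
  intro s₀ s₁ hs h₀
  by_cases hne : s₀ = s₁
  · rwa [← hne]
  obtain ⟨C, _, _, _, _, g, hcl, hgen⟩ := K440.CompleteDvr.exists_dvr hs hne
  let K := AlgebraicClosure (FractionRing C)
  let φ : C →+* K := (algebraMap (FractionRing C) K).comp (algebraMap C (FractionRing C))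
  have hφ : Function.Injective φ := (algebraMap (FractionRing C) K).injective.comp
    (IsFractionRing.injective C (FractionRing C))
  let κ := AlgebraicClosure (ResidueField C)
  let ψ : C →+* κ := (algebraMap (ResidueField C) κ).comp (residue C)
  have hψ : ∀ x ∈ maximalIdeal C, ψ x = 0 := fun x hx => by
    change algebraMap (ResidueField C) κ (residue C x) = 0
    rw [(residue_eq_zero_iff x).mpr hx, map_zero]
  -- the points of `S`
  have hκ : (Spec.map (CommRingCat.ofHom ψ) ≫ g) (closedPoint κ) = s₀ := by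
    have h1 : Spec.map (CommRingCat.ofHom ψ) (closedPoint κ) = closedPoint C := by
      apply PrimeSpectrum.ext
      ext x
      change ψ x ∈ maximalIdeal κ ↔ x ∈ maximalIdeal C
      rw [IsLocalRing.mem_maximalIdeal (R := κ), mem_nonunits_iff, isUnit_iff_ne_zero, not_not]
      refine ⟨fun hx => ?_, hψ x⟩
      have h2 : residue C x = 0 := (algebraMap (ResidueField C) κ).injective (hx.trans (map_zero _).symm)
      exact (residue_eq_zero_iff x).mp h2
    rw [Scheme.Hom.comp_apply, h1]
    exact hcl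
  have hK : (Spec.map (CommRingCat.ofHom φ) ≫ g) (closedPoint K) = s₁ := hgen K φ hφ
  -- the family over `Spec C`
  let f := pullback.snd π g
  have H : IsPullback (pullback.fst π g) f π g := IsPullback.of_hasPullback _ _
  have i1 : IsProper f := inferInstance
  have i2 : SmoothOfRelativeDimension 2 f :=
    (smoothOfRelativeDimension_isStableUnderBaseChange 2).of_isPullback H ‹_›
  have h6C : IsUnit (6 : C) := by
    have h1 := (h6.map g.appTop.hom).map (Scheme.ΓSpecIso (CommRingCat.of C)).hom.hom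
    rwa [map_ofNat, map_ofNat] at h1
  have HK : IsPullback (pullback.fst f (Spec.map (CommRingCat.ofHom φ)) ≫ pullback.fst π g)
      (pullback.snd f (Spec.map (CommRingCat.ofHom φ))) π (Spec.map (CommRingCat.ofHom φ) ≫ g) :=
    (IsPullback.of_hasPullback _ _).paste_horiz H
  have Hκ : IsPullback (pullback.fst f (Spec.map (CommRingCat.ofHom ψ)) ≫ pullback.fst π g)
      (pullback.snd f (Spec.map (CommRingCat.ofHom ψ))) π (Spec.map (CommRingCat.ofHom ψ) ≫ g) :=
    (IsPullback.of_hasPullback _ _).paste_horiz H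
  have hωK := Groth.Agent.S15539.result _ _ _ _ π _ _ _ HK 2 ω hω
  have hωκ := Groth.Agent.S15539.result _ _ _ _ π _ _ _ Hκ 2 ω hω
  have h1 := canon_triv_iff π hω _ HK hωK n
  have h2 := canon_triv_iff π hω _ Hκ hωκ n
  rw [hκ] at h2
  rw [hK] at h1
  exact h1.mp (hOrd C h6C _ f (hfib.of_isPullback H) K φ hφ κ ψ hψ _ hωK _ hωκ n (h2.mpr h₀))

/-- S15378 from `T1` and `Ord`. -/
theorem exists_pullback (h1 : T1.{u}) (hOrd : Ord.{u}) {X S : Scheme.{u}} (π : X ⟶ S) [IsProper π]
    [SmoothOfRelativeDimension 2 π] [IsNoetherian S] [AlgebraicGeometry.IsReduced S] [ConnectedSpace S]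
    (h6 : IsUnit (6 : Γ(S, ⊤))) (hfib : Fib π) (ω : X.Modules) (hω : Canon.IsTopDiff π 2 ω) :
    ∃ n : ℕ, (n = 2 ∨ n = 3 ∨ n = 4 ∨ n = 6) ∧ ∃ N : S.Modules, PicF.IsInvertible N ∧
      Nonempty (CohB1.tensorPow ω n ≅ (Scheme.Modules.pullback π).obj N) := by
  have hsm : Smooth π := SmoothOfRelativeDimension.smooth 2 π
  have hgi : GeometricallyIntegral π := geometricallyIntegral π (fun Ω _ _ s => (hfib Ω s).1)
  have hgc : GeometricallyConnected π := ⟨fun K _ y P a b H => by
    have : IsIntegral P := hgi.geometrically_isIntegral y a b H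
    exact (inferInstance : ConnectedSpace P)⟩
  have hinv : PicF.IsInvertible ω := K769.EvalRow.isInvertible_canonical π 2 hω
  let Z : ℕ → Set S := fun n => {y : S | Nonempty ((Scheme.Modules.pullback (π.fiberι y)).obj
      (CohB1.tensorPow ω n) ≅ Coh.structureModule (π.fiber y))}
  have hcl : ∀ n, IsClosed (Z n) := fun n => Groth.Agent.S16760.result π
    (fun K _ x => hgi.geometrically_isIntegral x _ _ (IsPullback.of_hasPullback π x)) (CohB1.tensorPow ω n)
    (Groth.Agent.Fdesc.LocGen.isInvertible_tensorPow hinv n)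
  have hop : ∀ n, IsOpen (Z n) := fun n => Groth.Agent.S2533.result (Z n) (hcl n)
    (stableUnderGeneralization hOrd π h6 hfib ω hω n)
  have hcov : ∀ y : S, y ∈ Z 4 ∨ y ∈ Z 6 := by
    intro y
    let Ω := AlgebraicClosure (S.residueField y)
    let s : Spec (CommRingCat.of Ω) ⟶ S :=
      Spec.map (CommRingCat.ofHom (algebraMap (S.residueField y) Ω)) ≫ S.fromSpecResidueField y
    have hs : s (closedPoint Ω) = y := by
      rw [Scheme.Hom.comp_apply]
      exact Scheme.fromSpecResidueField_apply _ _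
    obtain ⟨hint, hproj, ⟨ω', hω', hnum⟩, hb⟩ := hfib Ω s
    let _ : (pullback π s).Over (Spec (CommRingCat.of Ω)) := ⟨pullback.snd π s⟩
    have i1 : IsProper ((pullback π s) ↘ Spec (CommRingCat.of Ω)) :=
      inferInstanceAs (IsProper (pullback.snd π s))
    have i2 : SmoothOfRelativeDimension 2 ((pullback π s) ↘ Spec (CommRingCat.of Ω)) :=
      (smoothOfRelativeDimension_isStableUnderBaseChange 2).of_isPullback (IsPullback.of_hasPullback π s) ‹_›
    have h3 := fun n => canon_triv_iff π hω s (IsPullback.of_hasPullback π s) hω' n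
    rw [hs] at h3
    exact (h1 Ω (pullback π s) hproj ω' hω' hnum hb (six_ne_zero h6 Ω s)).imp (h3 4).mp (h3 6).mp
  have hdi : ∀ n, Z n = ∅ ∨ Z n = Set.univ := fun n => isClopen_iff.mp ⟨hcl n, hop n⟩
  obtain ⟨n, hn, hZ⟩ : ∃ n, (n = 2 ∨ n = 3 ∨ n = 4 ∨ n = 6) ∧ Z n = Set.univ := by
    rcases hdi 4 with h | h
    · refine ⟨6, by tauto, Set.eq_univ_of_forall fun y => ?_⟩
      rcases hcov y with h' | h'
      · rw [h] at h'
        exact h'.elim
      · exact h'
    · exact ⟨4, by tauto, h⟩
  refine ⟨n, hn, ?_⟩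
  have h0 : ∀ y : S, Module.finrank (S.residueField y) Γ(π.fiber y, ⊤) = 1 := by
    intro y
    have h2 := K769.EvalRow.bijective_algebraMap_fiber π y
    rw [← (LinearEquiv.ofBijective (Algebra.linearMap (S.residueField y) Γ(π.fiber y, ⊤)) h2).finrank_eq,
      Module.finrank_self]
  obtain ⟨N, hN, ⟨e⟩⟩ := (Groth.Agent.S16759.result π h0 (CohB1.tensorPow ω n)
    (Groth.Agent.Fdesc.LocGen.isInvertible_tensorPow hinv n)).1.mpr (fun y => by
      have : y ∈ Z n := by rw [hZ]; trivial
      exact this)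
  exact ⟨N, hN, ⟨e.symm⟩⟩

end K440.Fam
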