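import Groth.Agent.Biell.K440.PicSmoothMain
import Groth.Agent.Sga4h.CurveHat410
import Groth.Agent.Fga.EulerLEAdd
import Groth.Prelude.Def_LefMon
import Groth.Prelude.Def_Canon
import Groth.Prelude.Def_Pic13
import Groth.Prelude.Def_FGA
import Groth.Prelude.Def_Pic
import Groth.Prelude.Def_CohB1
import Groth.Prelude.Def_Coh
import Groth.Prelude.Def_ClSub2
import Groth.Prelude.Def_PicRel2

/-!
# Families of bielliptic surfaces: vanishing of `H^n(X_s, O)` for `n ≥ 2`

`T2` is the statement `h²(O) = 0` for bielliptic surfaces over algebraically closed fields with `6 ≠ 0`.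
-/

set_option autoImplicit false
universe u

open CategoryTheory CategoryTheory.Limits AlgebraicGeometry Opposite

namespace K440.Fam

/-- `h²(O_X) = 0` for bielliptic surfaces. -/
def T2 : Prop := ∀ (k : Type u) [Field k] [IsAlgClosed k] (X : Scheme.{u}) [X.Over (Spec (CommRingCat.of k))]
    [IsIntegral X] [IsProper (X ↘ Spec (CommRingCat.of k))] [SmoothOfRelativeDimension 2 (X ↘ Spec (CommRingCat.of k))]
    (_ : ∃ H : X.Modules, CohB1.IsAmple H)
    (ω : X.Modules) (_ : Canon.IsTopDiff (X ↘ Spec (CommRingCat.of k)) 2 ω) (_ : Pic13.IsNumEquivZero k X ω)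
    (_ : ∀ ℓ : ℕ, ℓ.Prime → (ℓ : k) ≠ 0 → EtAdic.betti X ℓ 2 = 2) (_ : (6 : k) ≠ 0),
    Module.finrank k (Coh.HH X (Coh.structureModule X) 2) = 0

/-- The fibre condition in the rows on families of bielliptic surfaces. -/
def Fib {X S : Scheme.{u}} (π : X ⟶ S) : Prop :=
  ∀ (Ω : Type u) [Field Ω] [IsAlgClosed Ω] (s : Spec (CommRingCat.of Ω) ⟶ S),
    AlgebraicGeometry.IsIntegral (pullback π s) ∧ (∃ H : (pullback π s).Modules, CohB1.IsAmple H) ∧
      (∃ ω' : (pullback π s).Modules, Canon.IsTopDiff (pullback.snd π s) 2 ω' ∧ @Pic13.IsNumEquivZero Ω _ (pullback π s) ⟨pullback.snd π s⟩ ω') ∧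
      ∀ ℓ : ℕ, ℓ.Prime → (ℓ : Ω) ≠ 0 → EtAdic.betti (pullback π s) ℓ 2 = 2

/-- `6` is invertible in every geometric point. -/
theorem six_ne_zero {S : Scheme.{u}} (h6 : IsUnit (6 : Γ(S, ⊤))) (Ω : Type u) [Field Ω]
    (s : Spec (CommRingCat.of Ω) ⟶ S) : (6 : Ω) ≠ 0 := by
  have h1 := (h6.map s.appTop.hom).map (Scheme.ΓSpecIso (CommRingCat.of Ω)).hom.hom
  rw [map_ofNat, map_ofNat] at h1
  exact h1.ne_zero

theorem van_of_fib (h2 : T2.{u}) {X S : Scheme.{u}} (π : X ⟶ S) [IsProper π] [SmoothOfRelativeDimension 2 π]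
    (h6 : ∀ (Ω : Type u) [Field Ω] (_ : Spec (CommRingCat.of Ω) ⟶ S), (6 : Ω) ≠ 0) (hfib : Fib π) :
    K440.PicSmooth.Van π := by
  intro Ω _ _ s n hn
  obtain ⟨hint, hproj, ⟨ω, hω, hnum⟩, hb⟩ := hfib Ω s
  let _ : (pullback π s).Over (Spec (CommRingCat.of Ω)) := ⟨pullback.snd π s⟩
  have i1 : IsProper ((pullback π s) ↘ Spec (CommRingCat.of Ω)) :=
    inferInstanceAs (IsProper (pullback.snd π s))
  have i2 : SmoothOfRelativeDimension 2 ((pullback π s) ↘ Spec (CommRingCat.of Ω)) :=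
    (smoothOfRelativeDimension_isStableUnderBaseChange 2).of_isPullback (IsPullback.of_hasPullback π s) ‹_›
  have i3 : IsNoetherian (pullback π s) := by
    have h1 : IsLocallyNoetherian (pullback π s) := LocallyOfFiniteType.isLocallyNoetherian (pullback.snd π s)
    have h2 : CompactSpace ↥(pullback π s) := QuasiCompact.compactSpace_of_compactSpace (pullback.snd π s)
    exact {}
  obtain rfl | hn := eq_or_lt_of_le hn
  · have h3 := h2 Ω (pullback π s) hproj ω hω hnum hb (h6 Ω s)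
    have h4 : Module.Finite Ω (Coh.HH (pullback π s) (Coh.structureModule (pullback π s)) 2) :=
      Groth.Agent.S0002.result Ω (pullback π s) _
        (Groth.Agent.Fdesc.StructMod.isCoh_structureModule (pullback π s)) 2
    exact Module.finrank_zero_iff.mp h3
  · refine Groth.Agent.Fga.EulerLEAdd.subsingleton_HH (pullback π s) 2 ?_ _ n hn
    have i4 : SmoothOfRelativeDimension 2 (pullback.snd π s) := i2
    exact (Groth.Agent.Sga4h.CurveHat410.topologicalKrullDim_eq (pullback.snd π s) 2).le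

/-- S15380 from `T2`. -/
theorem smooth_picScheme (h2 : T2.{u}) {X S : Scheme.{u}} (π : X ⟶ S) [IsProper π]
    [SmoothOfRelativeDimension 2 π] (h6 : IsUnit (6 : Γ(S, ⊤))) (hfib : Fib π)
    (P : Over S) (hP : PicRel.RepresentedBy π P) : Smooth P.hom := by
  have hs : Smooth π := SmoothOfRelativeDimension.smooth 2 π
  exact K440.PicSmooth.smooth_hom hP (van_of_fib h2 π (fun Ω _ s => six_ne_zero h6 Ω s) hfib)

end K440.Fam
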