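import Groth.Agent.Biell.K440.Polar
import Groth.Agent.Biell.K440.Fam

/-!
# Families of bielliptic surfaces: polarisations étale locally on the base
-/

set_option autoImplicit false
universe u

open CategoryTheory CategoryTheory.Limits AlgebraicGeometry Opposite

namespace K440.Fam

theorem isUnit_six {R : Type u} [CommRing R] (h6 : IsUnit (6 : R)) :
    IsUnit (6 : Γ(Spec (CommRingCat.of R), ⊤)) := by
  have h1 := h6.map (Scheme.ΓSpecIso (CommRingCat.of R)).inv.hom
  rwa [map_ofNat] at h1

/-- S15379 from `T2`. -/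
theorem exists_polarization (h2 : T2.{u}) (R : Type u) [CommRing R] [IsNoetherianRing R] (h6 : IsUnit (6 : R))
    (X : Scheme.{u}) (π : X ⟶ Spec (CommRingCat.of R)) [IsProper π] [SmoothOfRelativeDimension 2 π]
    (hfib : Fib π) :
    ∃ (S' : Scheme.{u}) (g : S' ⟶ Spec (CommRingCat.of R)), Etale g ∧ Surjective g ∧
      ∃ L : (pullback π g).Modules, RelAmple.IsRelAmple (pullback.snd π g) L := by
  have hs : Smooth π := SmoothOfRelativeDimension.smooth 2 π
  have hv := van_of_fib h2 π (fun Ω _ s => six_ne_zero (isUnit_six h6) Ω s) hfib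
  exact K440.Polar.exists_etale_cover π (fun Ω _ _ s => (hfib Ω s).2.1) (fun Ω _ _ s => hv Ω s 2 le_rfl)

end K440.Fam
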