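import Groth.Agent.Biell.K440.BettiIso
import Groth.Agent.Biell.K440.Fam
import Groth.Agent.Pic13.H960.NumDescent
import Groth.Agent.Models2.AmplePull
import Groth.Agent.S15539
import Groth.Agent.Canon.K769.EvalRow

/-!
# The fibre condition for families of bielliptic surfaces is stable under base change
-/

set_option autoImplicit false
universe u

open CategoryTheory CategoryTheory.Limits AlgebraicGeometry Opposite

namespace K440.Fam

/-- The condition on one geometric fibre. -/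
def FibAt {Ω : Type u} [Field Ω] {Z : Scheme.{u}} (p : Z ⟶ Spec (CommRingCat.of Ω)) : Prop :=
  AlgebraicGeometry.IsIntegral Z ∧ (∃ H : Z.Modules, CohB1.IsAmple H) ∧
      (∃ ω' : Z.Modules, Canon.IsTopDiff p 2 ω' ∧ @Pic13.IsNumEquivZero Ω _ Z ⟨p⟩ ω') ∧
      ∀ ℓ : ℕ, ℓ.Prime → (ℓ : Ω) ≠ 0 → EtAdic.betti Z ℓ 2 = 2

theorem FibAt.of_iso {Ω : Type u} [Field Ω] {Z Z' : Scheme.{u}} {p : Z ⟶ Spec (CommRingCat.of Ω)}
    {p' : Z' ⟶ Spec (CommRingCat.of Ω)} [IsProper p] [IsProper p'] [SmoothOfRelativeDimension 2 p]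
    (h : FibAt p) (e : Z' ≅ Z) (he : e.hom ≫ p = p') : FibAt p' := by
  obtain ⟨h1, ⟨H, hH⟩, ⟨ω, hω, hnum⟩, hb⟩ := h
  have hne : Nonempty Z' := h1.nonempty.map fun z => e.inv z
  have hω' : PicF.IsInvertible ω := K769.EvalRow.isInvertible_canonical p 2 hω
  refine ⟨isIntegral_of_isOpenImmersion e.hom, ⟨(Scheme.Modules.pullback e.hom).obj H, ?_⟩,
    ⟨(Scheme.Modules.pullback e.hom).obj ω, ?_, ?_⟩, fun ℓ hℓ hℓ' => ?_⟩
  · have := Groth.Agent.Models2.AmplePull.isAmple_pullback_iff_of_isIso e.hom (𝟙 _) H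
    rw [Category.comp_id] at this
    rw [this]
    exact Groth.Agent.Models2.AmplePull.isAmple_of_iso ((Scheme.Modules.pullbackId _).app H).symm hH
  · have sq : IsPullback e.hom p' p (𝟙 _) := IsPullback.of_horiz_isIso ⟨by rw [he, Category.comp_id]⟩
    exact Groth.Agent.S15539.result _ _ _ _ p p' e.hom (𝟙 _) sq 2 ω hω
  · let _ : Z.Over (Spec (CommRingCat.of Ω)) := ⟨p⟩
    let _ : Z'.Over (Spec (CommRingCat.of Ω)) := ⟨p'⟩
    have i1 : IsProper (Z ↘ Spec (CommRingCat.of Ω)) := ‹IsProper p›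
    have i2 : IsProper (Z' ↘ Spec (CommRingCat.of Ω)) := ‹IsProper p'›
    exact Groth.Agent.Pic13.H960.NumDescent.isNumEquivZero_pullback Ω e.hom he hω' hnum
  · rw [K440.BettiIso.betti_eq e ℓ 2]
    exact hb ℓ hℓ hℓ'

theorem fib_iff {X S : Scheme.{u}} (π : X ⟶ S) : Fib π ↔ ∀ (Ω : Type u) [Field Ω] [IsAlgClosed Ω]
    (s : Spec (CommRingCat.of Ω) ⟶ S), FibAt (pullback.snd π s) := Iff.rfl

/-- The fibre condition is stable under base change. -/
theorem Fib.of_isPullback {X S Y T : Scheme.{u}} {f : X ⟶ S} [IsProper f] [SmoothOfRelativeDimension 2 f]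
    (h : Fib f) {g : Y ⟶ X} {f' : Y ⟶ T} {b : T ⟶ S} (H : IsPullback g f' f b) : Fib f' := by
  have i1 : IsProper f' := MorphismProperty.of_isPullback H inferInstance
  have i2 : SmoothOfRelativeDimension 2 f' :=
    (smoothOfRelativeDimension_isStableUnderBaseChange 2).of_isPullback H ‹_›
  rw [fib_iff] at h ⊢
  intro Ω _ _ s
  have H1 : IsPullback (pullback.fst f' s ≫ g) (pullback.snd f' s) f (s ≫ b) :=
    (IsPullback.of_hasPullback f' s).paste_horiz H
  have i3 : SmoothOfRelativeDimension 2 (pullback.snd f (s ≫ b)) :=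
    (smoothOfRelativeDimension_isStableUnderBaseChange 2).of_isPullback (IsPullback.of_hasPullback f (s ≫ b)) ‹_›
  exact (h Ω (s ≫ b)).of_iso H1.isoPullback H1.isoPullback_hom_snd

end K440.Fam
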