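import Groth.Agent.Hensel.K143.FpColim
import Groth.Agent.Ega2.LimPic
import Groth.Agent.Pic13.H965.RelGrp
import Groth.Agent.Ega43.FPOfComp
import Mathlib.CategoryTheory.Limits.Preserves.Over

/-!
# Invertible classes over `Spec B` come from finitely presented algebras

`f : X ⟶ S` quasi-compact and quasi-separated, `t : Spec R ⟶ S`, `B` an `R`-algebra. Every invertible class on
`X_B` comes from `X_C` for a finitely presented `R`-algebra `C` mapping to `B`. Consequently, if the classifying map
of a class on `X_B` is locally of finite presentation, then `B` is of finite presentation.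
-/

set_option autoImplicit false
universe u

open CategoryTheory CategoryTheory.Limits AlgebraicGeometry Opposite
open K143.FpColim Groth.Agent.Ega2.LimPic
open Groth.Agent.Ega3A.PicDiv Groth.Agent.Ega3A.PicEtSh Groth.Agent.Grpsch.PicGrp
open Groth.Agent.Ega3A.PicSheaf Groth.Agent.Ega3A.PicLocBase Groth.Agent.Fga.RigGrp
open Groth.Agent.Pic13.H965

namespace K440.FpClass

variable {S : Scheme.{u}} {R B : Type u} [CommRing R] [CommRing B] [Algebra R B]
  (t : Spec (CommRingCat.of R) ⟶ S)

variable (B) in
/-- The diagram of the spectra of finitely presented algebras over `B`. -/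
noncomputable def fpD : (Idx R B)ᵒᵖ ⥤ Over S where
  obj i := spO t i.unop.Alg
  map a := spMap t a.unop.1
  map_id i := by
    apply Over.OverMorphism.ext
    exact Spec.map_id _
  map_comp a b := by
    apply Over.OverMorphism.ext
    change Spec.map _ = Spec.map _ ≫ Spec.map _
    rw [← Spec.map_comp]
    rfl

variable (B) in
/-- The cone with vertex `Spec B`. -/
noncomputable def fpC : Cone (fpD B t) where
  pt := spO t B
  π :=
    { app := fun i => spMap t i.unop.σ
      naturality := fun i j a => by
        apply Over.OverMorphism.ext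
        change 𝟙 _ ≫ Spec.map _ = Spec.map _ ≫ Spec.map _
        rw [← Spec.map_comp, Category.id_comp, ← CommRingCat.ofHom_comp]
        congr 2
        exact congrArg AlgHom.toRingHom a.unop.2.symm }

variable (B) in
/-- `Spec B` is the limit of the diagram. -/
noncomputable def isLimitFpC : IsLimit ((Over.forget S).mapCone (fpC B t)) :=
  isLimitOfPreserves Scheme.Spec (isColimitOfPreserves (Under.forget (CommRingCat.of R))
    (isColimit (A := R) (B := B))).op

variable {X : Scheme.{u}} (f : X ⟶ S) [QuasiCompact f] [QuasiSeparated f]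

/-- Every invertible class on `X_B` comes from a finitely presented algebra. -/
theorem exists_class (c : Pic (PicF.XT f (spO t B))) :
    ∃ (C : Type u) (_ : CommRing C) (_ : Algebra R C) (_ : Algebra.FinitePresentation R C)
      (σ : C →ₐ[R] B) (c₀ : Pic (PicF.XT f (spO t C))), pu f (spMap t σ) c₀ = c := by
  have h1 : ∀ {i j} (a : i ⟶ j), IsAffineHom ((fpD B t).map a).left := fun a =>
    inferInstanceAs (IsAffineHom (Spec.map _))
  have h2 : ∀ i, CompactSpace ((fpD B t).obj i).left := fun i =>
    inferInstanceAs (CompactSpace (Spec _))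
  have h3 : ∀ i, QuasiSeparatedSpace ((fpD B t).obj i).left := fun i =>
    inferInstanceAs (QuasiSeparatedSpace (Spec _))
  obtain ⟨i, ξ₀, hξ₀, h⟩ := exists_cl f (fpD B t) (fpC B t) (isLimitFpC B t) (toCl c)
    (isInvertibleCl_toCl c)
  obtain ⟨c₀, rfl⟩ := exists_toCl hξ₀
  exact ⟨i.unop.Alg, inferInstance, inferInstance, inferInstance, i.unop.σ, c₀,
    toCl_injective ((toCl_pull _ _).trans h)⟩

variable {P : Over S} {φ : ∀ T : Over S, PicF.Cl (PicF.XT f T) → (T ⟶ P)} (hφ : PicRel.IsRelPic f P φ)

include hφ

/-- If the classifying map of a class on `X_B` is locally of finite presentation, then `B` is of finite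
presentation. -/
theorem finitePresentation_of_class [LocallyOfFiniteType t] (c : Pic (PicF.XT f (spO t B)))
    (hl : LocallyOfFinitePresentation (RelGrp.cm φ c).left) : Algebra.FinitePresentation R B := by
  obtain ⟨C, _, _, hC, σ, c₀, rfl⟩ := exists_class t f c
  rw [RelGrp.cm_pu hφ] at hl
  have h1 : LocallyOfFinitePresentation ((spMap t σ).left ≫ (RelGrp.cm φ c₀).left) := hl
  have h2 : LocallyOfFiniteType ((RelGrp.cm φ c₀).left ≫ P.hom) := by
    rw [Over.w]
    change LocallyOfFiniteType (Spec.map (CommRingCat.ofHom (algebraMap R C)) ≫ t)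
    have : LocallyOfFiniteType (Spec.map (CommRingCat.ofHom (algebraMap R C))) :=
      (HasRingHomProperty.Spec_iff (P := @LocallyOfFiniteType)).mpr
        (RingHom.finiteType_algebraMap.mpr inferInstance)
    infer_instance
  have h3 : LocallyOfFiniteType (RelGrp.cm φ c₀).left := locallyOfFiniteType_of_comp _ P.hom
  have h4 : LocallyOfFinitePresentation (Spec.map (CommRingCat.ofHom σ.toRingHom)) :=
    Groth.Agent.Ega43.FPOfComp.locallyOfFinitePresentation_of_comp (spMap t σ).left (RelGrp.cm φ c₀).left
  have h5 : σ.toRingHom.FinitePresentation :=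
    (HasRingHomProperty.Spec_iff (P := @LocallyOfFinitePresentation)).mp h4
  have h6 : (algebraMap R C).FinitePresentation := RingHom.finitePresentation_algebraMap.mpr hC
  have h7 := h5.comp h6
  have h8 : σ.toRingHom.comp (algebraMap R C) = algebraMap R B := σ.comp_algebraMap
  rw [h8] at h7
  exact RingHom.finitePresentation_algebraMap.mp h7

end K440.FpClass
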