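import Groth.Agent.Variety.K422.GlueLine
import Groth.Agent.Variety.K425.Chart
import Groth.Agent.Cons9.K119.RelAmpInd
import Groth.Agent.Fdesc.AmpleDescent
import Groth.Agent.Models2.AmplePull
import Groth.Agent.S12128

/-!
# Gluing invertible modules and relative ampleness along disjoint unions of the base

* `exists_module`: invertible modules on the pieces of a disjoint open cover glue.
* `exists_relAmple_sigma`: `f : X ⟶ S` proper of finite presentation, `g k : T k ⟶ S` such that every `X ×_S T k`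
  carries a relatively ample invertible sheaf. Then `X ×_S ∐ T k` carries one.
-/

set_option autoImplicit false
universe u
open CategoryTheory CategoryTheory.Limits AlgebraicGeometry TopologicalSpace Opposite
open Groth.Agent.Fdesc.LocGen

namespace K440.GlueDisj

theorem isGen_of_eq_bot {Z : Scheme.{u}} {L : Z.Modules} {U : Z.Opens} (hU : U = ⊥) (e : Γ(L, U)) :
    IsGen e := by
  rw [isGen_iff_forall_exists]
  intro x hx
  rw [hU] at hx
  exact hx.elim

variable {X : Scheme.{u}} {κ : Type u} {Z : κ → Scheme.{u}} (f : ∀ k, Z k ⟶ X) [∀ k, IsOpenImmersion (f k)]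

/-- Invertible modules on the pieces of a disjoint open cover glue. -/
theorem exists_module (hcov : ∀ x : X, ∃ k, ∃ z : Z k, f k z = x)
    (hdisj : ∀ i j, i ≠ j → (f i).opensRange ⊓ (f j).opensRange = ⊥)
    (N : ∀ k, (Z k).Modules) (hN : ∀ k, PicF.IsInvertible (N k)) :
    ∃ L : X.Modules, PicF.IsInvertible L ∧ ∀ k, Nonempty ((Scheme.Modules.pullback (f k)).obj L ≅ N k) := by
  let ι : Type u := Σ k, {U : (Z k).Opens // ∃ e : Γ(N k, f k ⁻¹ᵁ (f k ''ᵁ U)), IsGen e}
  let W : ι → X.Opens := fun i => f i.1 ''ᵁ i.2.1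
  have hWr : ∀ i, W i ≤ (f i.1).opensRange := fun i => (f i.1).image_le_opensRange _
  have hpre : ∀ (V : X.Opens) (k j : κ), V ≤ (f j).opensRange → j ≠ k → f k ⁻¹ᵁ V = ⊥ := by
    intro V k j hV hjk
    rw [eq_bot_iff]
    intro z hz
    have h1 : f k z ∈ (f j).opensRange ⊓ (f k).opensRange := ⟨hV hz, ⟨z, rfl⟩⟩
    rw [hdisj j k hjk] at h1
    exact h1
  have hex : ∀ (i : ι) (k : κ), ∃ n : Γ(N k, f k ⁻¹ᵁ W i), IsGen n := by
    intro i k
    by_cases h : i.1 = k
    · subst h
      exact i.2.2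
    · exact ⟨0, isGen_of_eq_bot (hpre _ _ _ (hWr i) h) _⟩
  choose n hn using hex
  have hW : ⨆ i, W i = ⊤ := by
    rw [eq_top_iff]
    intro x _
    obtain ⟨k, z, rfl⟩ := hcov x
    obtain ⟨U, e, hz, he⟩ := (isInvertible_iff (N k)).mp (hN k) z
    refine Opens.mem_iSup.mpr ⟨⟨k, U, ?_⟩, ⟨z, hz, rfl⟩⟩
    have h1 : f k ⁻¹ᵁ (f k ''ᵁ U) ≤ U := (f k).preimage_image_eq U |>.le
    exact ⟨_, he.res h1⟩
  have hext : ∀ (T : X.Opens) (a b : Γ(X, T)),
      (∀ k, ((f k).app T a : Γ(Z k, f k ⁻¹ᵁ T)) = (f k).app T b) → a = b := by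
    intro T a b h
    refine ores_ext (fun k => (f k).opensRange ⊓ T) (fun k => inf_le_right) ?_ fun k => ?_
    · intro x hx
      obtain ⟨k, z, rfl⟩ := hcov x
      exact Opens.mem_iSup.mpr ⟨k, ⟨⟨z, rfl⟩, hx⟩⟩
    have h1 : IsIso ((f k).app ((f k).opensRange ⊓ T)) := (f k).isIso_app _ inf_le_left
    apply (ConcreteCategory.bijective_of_isIso ((f k).app ((f k).opensRange ⊓ T))).1
    have h2 := fun c : Γ(X, T) => K422.GlueLine.app_ores (f k) (inf_le_right : (f k).opensRange ⊓ T ≤ T) c
    exact (h2 a).trans ((congrArg _ (h k)).trans (h2 b).symm)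
  obtain ⟨L, e, hL, -, -, hiso⟩ := K422.GlueLine.exists_glue f N W hW n hn
    (fun i j _ T _ a b h => hext T a b h) (by
      intro i j _ c
      have h1 : W i ⊓ W j ≤ (f i.1).opensRange := inf_le_left.trans (hWr i)
      have h2 : IsIso ((f i.1).app (W i ⊓ W j)) := (f i.1).isIso_app _ h1
      obtain ⟨a, ha⟩ := (ConcreteCategory.bijective_of_isIso ((f i.1).app (W i ⊓ W j))).2 (c i.1)
      refine ⟨a, fun k => ?_⟩
      by_cases h : i.1 = k
      · subst h
        exact ha
      · have h3 := hpre _ _ _ h1 h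
        have h4 : ∀ (V : (Z k).Opens) (hV : V = ⊥) (a b : Γ(Z k, V)), a = b := by
          rintro V rfl a b
          exact Subsingleton.elim _ _
        exact h4 _ h3 _ _)
  exact ⟨L, hL, hiso⟩

/-- Ampleness on a fibre from ampleness over a field-valued point. -/
theorem isAmple_fiber {X Y : Scheme.{u}} (f : X ⟶ Y) [QuasiCompact f] {L : X.Modules} (hL : PicF.IsInvertible L)
    {K : Type u} [Field K] (s : Spec (CommRingCat.of K) ⟶ Y) {P : Scheme.{u}} {a : P ⟶ X}
    {b : P ⟶ Spec (CommRingCat.of K)} (H : IsPullback a b f s)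
    (hA : CohB1.IsAmple ((Scheme.Modules.pullback a).obj L)) :
    CohB1.IsAmple ((Scheme.Modules.pullback (f.fiberι (s (IsLocalRing.closedPoint K)))).obj L) := by
  let y := s (IsLocalRing.closedPoint K)
  let φ : Spec (CommRingCat.of K) ⟶ Spec (Y.residueField y) :=
    Spec.map (Scheme.descResidueField (Scheme.stalkClosedPointTo s))
  have hφ : φ ≫ Y.fromSpecResidueField y = s :=
    Scheme.descResidueField_stalkClosedPointTo_fromSpecResidueField K Y s
  have H0 : IsPullback (f.fiberι y) (f.fiberToSpecResidueField y) f (Y.fromSpecResidueField y) :=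
    IsPullback.of_hasPullback _ _
  have H1 : IsPullback a b f (φ ≫ Y.fromSpecResidueField y) := by rwa [hφ]
  have H2 := IsPullback.of_right' H1 H0
  have h1 : H0.lift a (b ≫ φ) (by rw [Category.assoc]; exact H1.w) ≫ f.fiberι y = a := H0.lift_fst _ _ _
  have hfl : Flat φ := by
    change Flat (Spec.map _)
    rw [HasRingHomProperty.Spec_iff (P := @Flat)]
    let _ := (Scheme.descResidueField (Scheme.stalkClosedPointTo s)).hom.toAlgebra
    exact (inferInstance : Module.Flat (Y.residueField y) K)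
  have hsu : Surjective φ := by
    constructor
    intro x
    exact ⟨IsLocalRing.closedPoint K, Subsingleton.elim _ _⟩
  refine Groth.Agent.Fdesc.AmpleDescent.isAmple_of_isPullback (f.fiberToSpecResidueField y) φ _ _ H2 _
    (Groth.Agent.Models2.AmplePull.isInvertible_pullback _ hL) ?_
  rw [← Groth.Agent.Models2.AmplePull.isAmple_pullback_comp]
  rwa [Groth.Agent.Models2.AmplePull.isAmple_pullback_congr h1]

/-- Relatively ample sheaves on the `X ×_S T k` glue to one on `X ×_S ∐ T k`. -/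
theorem exists_relAmple_sigma {X S : Scheme.{u}} (π : X ⟶ S) [IsProper π] [LocallyOfFinitePresentation π]
    {κ : Type u} {T : κ → Scheme.{u}} (g : ∀ k, T k ⟶ S)
    (h : ∀ k, ∃ L : (pullback π (g k)).Modules, RelAmple.IsRelAmple (pullback.snd π (g k)) L) :
    ∃ L : (pullback π (Sigma.desc g)).Modules, RelAmple.IsRelAmple (pullback.snd π (Sigma.desc g)) L := by
  choose N hN using h
  let j : ∀ k, pullback π (g k) ⟶ pullback π (Sigma.desc g) := fun k =>
    pullback.lift (pullback.fst _ _) (pullback.snd _ _ ≫ Sigma.ι T k)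
      (by rw [Category.assoc, Sigma.ι_desc]; exact pullback.condition)
  have Hj : ∀ k, IsPullback (j k) (pullback.snd π (g k)) (pullback.snd π (Sigma.desc g)) (Sigma.ι T k) := by
    intro k
    have H0 := (IsPullback.of_hasPullback π (Sigma.desc g))
    have H1 : IsPullback (j k ≫ pullback.fst _ _) (pullback.snd π (g k)) π (Sigma.ι T k ≫ Sigma.desc g) := by
      rw [pullback.lift_fst, Sigma.ι_desc]
      exact IsPullback.of_hasPullback _ _
    exact IsPullback.of_right H1 (pullback.lift_snd _ _ _) H0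
  have hopen : ∀ k, IsOpenImmersion (j k) := fun k =>
    MorphismProperty.of_isPullback (Hj k).flip inferInstance
  have hcov : ∀ x, ∃ k, ∃ z, j k z = x := by
    intro x
    obtain ⟨k, t, ht⟩ := (sigmaOpenCover T).exists_eq (pullback.snd π (Sigma.desc g) x)
    obtain ⟨z, hz, -⟩ := Scheme.exists_preimage_of_isPullback (Hj k) x t ht.symm
    exact ⟨k, z, hz⟩
  have hdisj : ∀ i k, i ≠ k → (j i).opensRange ⊓ (j k).opensRange = ⊥ := by
    intro i k hik
    rw [eq_bot_iff]
    rintro x ⟨⟨z, hz⟩, ⟨z', hz'⟩⟩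
    have h1 : pullback.snd π (Sigma.desc g) x ∈ (Sigma.ι T i).opensRange ⊓ (Sigma.ι T k).opensRange := by
      refine ⟨⟨pullback.snd π (g i) z, ?_⟩, ⟨pullback.snd π (g k) z', ?_⟩⟩
      · rw [← hz]
        exact congr(($((Hj i).w)).base z).symm
      · rw [← hz']
        exact congr(($((Hj k).w)).base z').symm
    have h2 := (disjoint_opensRange_sigmaι T i k hik).eq_bot
    rw [h2] at h1
    exact h1.elim
  obtain ⟨L, hL, hLN⟩ := exists_module j hcov hdisj N
    (fun k => K119.RelAmpInd.isInvertible_of_isRelAmple (hN k))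
  refine ⟨L, (Groth.Agent.S12128.result _ L hL).mpr fun s => ?_⟩
  obtain ⟨k, t, rfl⟩ := (sigmaOpenCover T).exists_eq s
  change CohB1.IsAmple ((Scheme.Modules.pullback ((pullback.snd π (Sigma.desc g)).fiberι
    (Sigma.ι T k t))).obj L)
  let x : Spec (CommRingCat.of ((T k).residueField t)) ⟶ T k := (T k).fromSpecResidueField t
  have H1 : IsPullback (pullback.fst (pullback.snd π (g k)) x) (pullback.snd _ x) (pullback.snd π (g k)) x :=
    IsPullback.of_hasPullback _ _
  have H2 := H1.paste_horiz (Hj k)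
  have h1 : (x ≫ Sigma.ι T k) (IsLocalRing.closedPoint _) = Sigma.ι T k t := by
    rw [Scheme.Hom.comp_apply]
    congr 1
    exact Scheme.fromSpecResidueField_apply _ _
  rw [← h1]
  refine isAmple_fiber _ hL _ H2 ?_
  rw [Groth.Agent.Models2.AmplePull.isAmple_pullback_comp]
  obtain ⟨e⟩ := hLN k
  exact Groth.Agent.Models2.AmplePull.isAmple_of_iso ((Scheme.Modules.pullback _).mapIso e.symm)
    (K425.Chart.isAmple_pullback_of_relAmple (hN k) x)

end K440.GlueDisj
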