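import Groth.Agent.Biell.K440.ShiftAlg
import Groth.Agent.Ega3B.AcyclicBC
import Groth.Agent.Ega3B.EtAffine
import Groth.Agent.PerfA.IdealModule
import Groth.Agent.Fdesc.StructMod

/-!
# Vanishing of the cohomology of the ideal generated by an ideal of the base

`f : X ⟶ T` quasi-compact, separated and flat, `T` affine, `J` an ideal of `Γ(T, O)`, and `H^n(X, O) = 0` for `n > m`.
Then `H^n(X, J O_X) = 0` for `n > m`.
-/

set_option autoImplicit false
universe u
open CategoryTheory CategoryTheory.Limits AlgebraicGeometry Opposite TopologicalSpace TensorProduct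

namespace K440.IdealVanish

section Alg

variable {A : Type u} [CommRing A] (J : Ideal A)

/-- `J ⊗ M → M` -/
def mul (M : Type u) [AddCommGroup M] [Module A M] : J ⊗[A] M →ₗ[A] M :=
  (TensorProduct.lid A M).toLinearMap ∘ₗ J.subtype.rTensor M

theorem mul_tmul (M : Type u) [AddCommGroup M] [Module A M] (j : J) (x : M) :
    mul J M (j ⊗ₜ x) = (j : A) • x := by
  simp [mul]

theorem range_mul (M : Type u) [AddCommGroup M] [Module A M] :
    LinearMap.range (mul J M) = J • (⊤ : Submodule A M) := by
  apply le_antisymm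
  · rintro _ ⟨w, rfl⟩
    induction w using TensorProduct.induction_on with
    | zero => rw [map_zero]; exact Submodule.zero_mem _
    | add x y hx hy => rw [map_add]; exact Submodule.add_mem _ hx hy
    | tmul j x => rw [mul_tmul]; exact Submodule.smul_mem_smul j.2 trivial
  · rw [Submodule.smul_le]
    intro r hr x _
    exact ⟨⟨r, hr⟩ ⊗ₜ x, mul_tmul J M _ _⟩

theorem mul_injective (M : Type u) [AddCommGroup M] [Module A M] [Module.Flat A M] :
    Function.Injective (mul J M) :=
  (TensorProduct.lid A M).injective.comp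
    (Module.Flat.rTensor_preserves_injective_linearMap _ J.subtype_injective)

theorem mul_lTensor {M N : Type u} [AddCommGroup M] [Module A M] [AddCommGroup N] [Module A N]
    (d : M →ₗ[A] N) (w : J ⊗[A] M) : mul J N (d.lTensor J w) = d (mul J M w) := by
  have : mul J N ∘ₗ d.lTensor J = d ∘ₗ mul J M := by
    ext j x
    simp [mul]
  exact LinearMap.congr_fun this w

theorem exists_mem {M N P : Type u} [AddCommGroup M] [Module A M] [AddCommGroup N] [Module A N]
    [AddCommGroup P] [Module A P] [Module.Flat A P] (d : M →ₗ[A] N) (e : N →ₗ[A] P)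
    (hex : Function.Exact (d.lTensor J) (e.lTensor J)) (x : N) (hx : x ∈ J • (⊤ : Submodule A N))
    (h : e x = 0) : ∃ y ∈ J • (⊤ : Submodule A M), d y = x := by
  rw [← range_mul] at hx
  obtain ⟨w, rfl⟩ := hx
  rw [← mul_lTensor] at h
  obtain ⟨z, rfl⟩ := (hex w).mp (mul_injective J P (h.trans (map_zero _).symm))
  refine ⟨mul J M z, ?_, (mul_lTensor J d z).symm⟩
  rw [← range_mul]
  exact ⟨z, rfl⟩

theorem mem_smul_top_pi {ι : Type} [Fintype ι] (M : ι → Type u) [∀ i, AddCommGroup (M i)]
    [∀ i, Module A (M i)] (x : ∀ i, M i) :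
    x ∈ J • (⊤ : Submodule A (∀ i, M i)) ↔ ∀ i, x i ∈ J • (⊤ : Submodule A (M i)) := by
  classical
  constructor
  · intro hx i
    have h1 : (J • (⊤ : Submodule A (∀ i, M i))).map (LinearMap.proj i) ≤ J • (⊤ : Submodule A (M i)) := by
      rw [Submodule.map_smul'']
      exact Submodule.smul_mono le_rfl le_top
    exact h1 ⟨x, hx, rfl⟩
  · intro hx
    have h1 : x = ∑ i, Pi.single i (x i) := (Finset.univ_sum_single x).symm
    rw [h1]
    refine Submodule.sum_mem _ fun i _ => ?_
    have h2 : (J • (⊤ : Submodule A (M i))).map (LinearMap.single A M i) ≤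
        J • (⊤ : Submodule A (∀ i, M i)) := by
      rw [Submodule.map_smul'']
      exact Submodule.smul_mono le_rfl le_top
    exact h2 ⟨x i, hx i, rfl⟩

theorem mem_map_iff {S : Type u} [CommRing S] (φ : A →+* S) (a : S) :
    a ∈ J.map φ ↔ a ∈ (letI := Module.compHom S φ; J • (⊤ : Submodule A S)) := by
  let _ := φ.toAlgebra
  have h := Ideal.smul_top_eq_map (R := A) (S := S) J
  change _ ↔ a ∈ J • (⊤ : Submodule A S)
  rw [h]
  rfl

end Alg

open Groth.Agent.Ega3B
open CubeData CombRes Cube CechBC CechH0 AcyclicAlg AcyclicBC Groth.Agent.VarietyB.FlatH0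
  Groth.Agent.VarietyB.BCAlg
open Groth.Agent.Fdesc

attribute [local instance 3000] LocExact.hasSheafify

theorem subsingleton_HH {T X : Scheme.{u}} [IsAffine T] (f : X ⟶ T) [QuasiCompact f] [IsSeparated f]
    [Flat f] (m : ℕ) (h : ∀ n, m ≤ n → Subsingleton (Coh.HH X (Coh.structureModule X) (n + 1)))
    (J : Ideal Γ(T, ⊤)) (I : X.IdealSheafData)
    (hI : ∀ U : X.affineOpens, I.ideal U = J.map (f.appLE ⊤ U.1 le_top).hom) (n : ℕ) (hn : m ≤ n) :
    Subsingleton (Coh.HH X (ClSub.idealMod I) (n + 1)) := by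
  have h1 : CompactSpace X := QuasiCompact.compactSpace_of_compactSpace f
  have h2 : X.IsSeparated := by
    have : IsSeparated (terminal.from X) := by
      have : terminal.from X = f ≫ terminal.from _ := terminal.hom_ext _ _
      rw [this]
      infer_instance
    exact ⟨this⟩
  have hF : Coh.IsQCoh (Coh.structureModule X) := StructMod.isQCoh_structureModule X
  have hG : Coh.IsQCoh (ClSub.idealMod I) := Groth.Agent.PerfA.IdealModule.isQCoh_idealMod I
  obtain ⟨N, U, hcov, hU⟩ := exists_cover X
  let i1 := fun n => modC f (Coh.structureModule X) U n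
  let i2 := fun V => modV f (Coh.structureModule X) V
  have hflat : ∀ n, Module.Flat Γ(T, ⊤) (C (Coh.structureModule X) U n) := fun n =>
    flat_C U _ hF (EtAffine.isFlatOver_structureModule f) hU n
  have hex : ∀ n, m ≤ n → Function.Exact (d f (Coh.structureModule X) U n)
      (d f (Coh.structureModule X) U (n + 1)) := by
    intro n hn x
    constructor
    · intro hx
      exact exists_of_vanish _ U hF hcov hU n (h n hn) x hx
    · rintro ⟨y, rfl⟩
      exact (cech (X := X.toPresheafedSpace.carrier) U).δ_δ n y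
  have hN : ∀ n, Fintype.card (Fin N) ≤ n → Subsingleton (C (Coh.structureModule X) U n) :=
    fun n hn => subsingleton_C _ U n hn
  let κ : ∀ n, C (ClSub.idealMod I) U n →+ C (Coh.structureModule X) U n := fun n =>
    (cech (X := X.toPresheafedSpace.carrier) U).Kmap n ((SheafOfModules.toSheaf X.ringCatSheaf).map (ClSub.idealModι I)).hom
  have hκ : ∀ n x b, κ n x b = Groth.Agent.PerfA.IdealModule.val I (x b) := fun n x b => rfl
  have hinj : ∀ n, Function.Injective (κ n) := by
    intro n x y hxy
    funext b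
    exact Groth.Agent.PerfA.IdealModule.val_injective I _ (congrFun hxy b)
  have hmem : ∀ (V : X.affineOpens) (a : Γ(X, V.1)), a ∈ I.ideal V ↔
      (show Γ(Coh.structureModule X, V.1) from a) ∈ J • (⊤ : Submodule Γ(T, ⊤) Γ(Coh.structureModule X, V.1)) := by
    intro V a
    rw [hI V]
    exact mem_map_iff J (f.appLE ⊤ V.1 le_top).hom a
  refine subsingleton_of_exact _ U hG hcov hU n (fun x hx => ?_)
  let Uaff : ∀ n (b : (cech (X := X.toPresheafedSpace.carrier) U).B n), X.affineOpens := fun n b =>
    ⟨_, hU b.1 b.2.1⟩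
  have h3 : κ (n + 1) x ∈ J • (⊤ : Submodule Γ(T, ⊤) (C (Coh.structureModule X) U (n + 1))) := by
    refine (mem_smul_top_pi J (fun b : (cech (X := X.toPresheafedSpace.carrier) U).B (n + 1) =>
      Γ(Coh.structureModule X, (cech (X := X.toPresheafedSpace.carrier) U).W (n + 1) b))
      (κ (n + 1) x)).mpr fun b => ?_
    exact (hmem (Uaff (n + 1) b) _).mp (Groth.Agent.PerfA.IdealModule.val_mem I (Uaff (n + 1) b) (x b))
  have h4 : d f (Coh.structureModule X) U (n + 1) (κ (n + 1) x) = 0 := by
    refine ((cech (X := X.toPresheafedSpace.carrier) U).δ_naturality (n + 1) _ x).trans ?_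
    rw [hx, map_zero]
  obtain ⟨y', hy', hy⟩ := exists_mem J (d f (Coh.structureModule X) U n) (d f (Coh.structureModule X) U (n + 1))
    (K440.ShiftAlg.lTensor_exact m hex hflat _ hN J n hn) _ h3 h4
  obtain ⟨y, rfl⟩ : ∃ y, κ n y = y' := by
    have h5 := (mem_smul_top_pi J (fun b : (cech (X := X.toPresheafedSpace.carrier) U).B n =>
      Γ(Coh.structureModule X, (cech (X := X.toPresheafedSpace.carrier) U).W n b)) y').mp hy'
    choose y hy using fun b : (cech (X := X.toPresheafedSpace.carrier) U).B n =>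
      Groth.Agent.PerfA.IdealModule.exists_val_eq I (Uaff n b) ((hmem (Uaff n b) (y' b)).mpr (h5 b))
    exact ⟨y, funext hy⟩
  refine ⟨y, hinj (n + 1) ?_⟩
  rw [← hy]
  exact ((cech (X := X.toPresheafedSpace.carrier) U).δ_naturality n _ y).symm

end K440.IdealVanish
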