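import Groth.Agent.Biell.K440.Vanish
import Groth.Agent.Biell.K440.IdealVanish
import Groth.Agent.PicGrp.K858.Thick
import Groth.Agent.Divis.IdealComap
import Groth.Agent.Lift.K695.ClFib

/-!
# Lifting invertible modules along square-zero thickenings of an affine base

`f : X ⟶ T` proper, flat, locally of finite presentation, `T` affine, `H^n(X_s, O) = 0` for `n ≥ 2` and all geometric
points `s`; `T₀ ⟶ T` a closed immersion with square-zero ideal. Then `Pic X → Pic X₀` is surjective.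
-/

set_option autoImplicit false
universe u
open CategoryTheory CategoryTheory.Limits AlgebraicGeometry Opposite TopologicalSpace

namespace K440.PicLift

open Groth.Agent.Grpsch.PicGrp

theorem pull_surjective_of_H2 {X X₀ : Scheme.{u}} (j : X₀ ⟶ X) [IsClosedImmersion j] (hj : j.ker ^ 2 = ⊥)
    (h : Subsingleton (Coh.HH X (ClSub.idealMod j.ker) 2)) :
    Function.Surjective (pull j : Pic X → Pic X₀) := by
  obtain ⟨-, -, -, δ, -, -, -, -, -, hδ⟩ := K858.Thick.seven j.ker hj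
  intro c
  have h1 : pull (inv j.toImage) c ∈ (pull j.ker.subschemeι).range := by
    rw [← hδ, MonoidHom.mem_ker]
    exact (Multiplicative.toAdd (α := Coh.HH X (ClSub.idealMod j.ker) 2)).injective (h.elim _ _)
  obtain ⟨c', hc'⟩ := h1
  refine ⟨c', ?_⟩
  have h2 : pull j c' = pull j.toImage (pull j.ker.subschemeι c') := by
    rw [← pull_comp]
    congr 2
    exact j.toImage_imageι.symm
  rw [h2, hc', ← pull_comp, IsIso.hom_inv_id, pull_id]

theorem ker_ideal {T T₀ X X₀ : Scheme.{u}} {f : X ⟶ T} {i : T₀ ⟶ T} {j : X₀ ⟶ X} {f₀ : X₀ ⟶ T₀}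
    (H : IsPullback j f₀ f i) [IsClosedImmersion i] [IsAffine T] (U : X.affineOpens) :
    j.ker.ideal U = (i.ker.ideal ⟨⊤, isAffineOpen_top T⟩).map (f.appLE ⊤ U.1 le_top).hom := by
  have h1 : j.ker = i.ker.comap f := by
    rw [← Scheme.IdealSheafData.ker_fst_of_isClosedImmersion, ← H.isoPullback_hom_fst,
      Scheme.Hom.ker_comp_of_isIso]
  rw [h1, Groth.Agent.Divis.IdealComap.ideal_comap _ f ⟨⊤, isAffineOpen_top T⟩ U le_top]

theorem ker_sq {T T₀ X X₀ : Scheme.{u}} {f : X ⟶ T} {i : T₀ ⟶ T} {j : X₀ ⟶ X} {f₀ : X₀ ⟶ T₀}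
    (H : IsPullback j f₀ f i) [IsClosedImmersion i] [IsAffine T]
    (hi : (i.ker.ideal ⟨⊤, isAffineOpen_top T⟩) ^ 2 = ⊥) : j.ker ^ 2 = ⊥ := by
  apply Scheme.IdealSheafData.ext
  funext U
  rw [Scheme.IdealSheafData.ideal_pow, Pi.pow_apply, ker_ideal H U, ← Ideal.map_pow, hi, Ideal.map_bot]
  rfl

/-- **Lifting classes along a square-zero thickening of the base.** -/
theorem pull_surjective {T T₀ X X₀ : Scheme.{u}} {f : X ⟶ T} {i : T₀ ⟶ T} {j : X₀ ⟶ X} {f₀ : X₀ ⟶ T₀}
    (H : IsPullback j f₀ f i) [IsClosedImmersion i] [IsAffine T] [IsProper f] [Flat f]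
    [LocallyOfFinitePresentation f] (hi : (i.ker.ideal ⟨⊤, isAffineOpen_top T⟩) ^ 2 = ⊥)
    (h : ∀ (Ω : Type u) [Field Ω] [IsAlgClosed Ω] (s : Spec (CommRingCat.of Ω) ⟶ T) (n : ℕ), 2 ≤ n →
      Subsingleton (Coh.HH (pullback f s) (Coh.structureModule _) n)) :
    Function.Surjective (pull j : Pic X → Pic X₀) := by
  have hj : IsClosedImmersion j := MorphismProperty.of_isPullback H.flip inferInstance
  refine pull_surjective_of_H2 j (ker_sq H hi) ?_
  refine K440.IdealVanish.subsingleton_HH f 1 ?_ (i.ker.ideal ⟨⊤, isAffineOpen_top T⟩) j.ker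
    (fun U => ker_ideal H U) 1 le_rfl
  exact K440.Vanish.subsingleton_HH f 1 (fun Ω _ _ s n hn => h Ω s (n + 1) (by omega))

end K440.PicLift
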