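import Groth.Agent.Biell.K440.FpClass
import Groth.Agent.Biell.K440.PicLift
import Groth.Agent.Pic13.H965.LFT
import Groth.Agent.S0115
import Groth.Agent.S5075

/-!
# Smoothness of a scheme representing the relative Picard functor

`f : X ⟶ S` proper, flat, locally of finite presentation, `H^n(X_s, O) = 0` for `n ≥ 2` and all geometric points `s`
of `S` (any base). A scheme representing the étale sheafified relative Picard functor of `X/S` is smooth over `S`.
-/

set_option autoImplicit false
universe u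

open CategoryTheory CategoryTheory.Limits AlgebraicGeometry Opposite
open Groth.Agent.Ega2.LimPic
open Groth.Agent.Ega3A.PicDiv Groth.Agent.Ega3A.PicEtSh Groth.Agent.Grpsch.PicGrp
open Groth.Agent.Ega3A.PicSheaf Groth.Agent.Ega3A.PicLocBase Groth.Agent.Fga.RigGrp
open Groth.Agent.Pic13.H965

namespace K440.PicSmooth

variable {S X : Scheme.{u}} {f : X ⟶ S} {P : Over S}
  {φ : ∀ T : Over S, PicF.Cl (PicF.XT f T) → (T ⟶ P)} (hφ : PicRel.IsRelPic f P φ)

instance isClosedImmersion_spMap {R C : Type u} [CommRing R] [CommRing C] [Algebra R C]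
    (t : Spec (CommRingCat.of R) ⟶ S) (I : Ideal C) :
    IsClosedImmersion (spMap t (Ideal.Quotient.mkₐ R I)).left :=
  IsClosedImmersion.spec_of_surjective _ Ideal.Quotient.mk_surjective

/-- The closed immersion of a square-zero ideal is surjective. -/
theorem surjective_spMap {R C : Type u} [CommRing R] [CommRing C] [Algebra R C]
    (t : Spec (CommRingCat.of R) ⟶ S) (I : Ideal C) (hI : I ^ 2 = ⊥) :
    Surjective (spMap t (Ideal.Quotient.mkₐ R I)).left := by
  constructor
  intro x
  have h1 : Set.range (PrimeSpectrum.comap (Ideal.Quotient.mk I)) = PrimeSpectrum.zeroLocus I :=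
    _root_.range_comap_of_surjective _ _ Ideal.Quotient.mk_surjective |>.trans (by rw [Ideal.mk_ker])
  have h2 : (show PrimeSpectrum C from x) ∈ PrimeSpectrum.zeroLocus (I : Set C) := by
    intro a ha
    have h3 : a ^ 2 ∈ (show PrimeSpectrum C from x).asIdeal := by
      have : a ^ 2 ∈ I ^ 2 := Ideal.pow_mem_pow ha 2
      rw [hI] at this
      rw [show a ^ 2 = 0 from this]
      exact Ideal.zero_mem _
    exact (show PrimeSpectrum C from x).2.mem_of_pow_mem 2 h3
  rw [← h1] at h2
  obtain ⟨y, hy⟩ := h2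
  exact ⟨y, hy⟩

include hφ

/-- If classes lift along square-zero thickenings, then étale charts given by classes are formally smooth. -/
theorem formallySmooth_of_class {R B : Type u} [CommRing R] [CommRing B] [Algebra R B]
    (t : Spec (CommRingCat.of R) ⟶ S) [Mono t]
    (hL : ∀ (C : Type u) [CommRing C] [Algebra R C] (I : Ideal C), I ^ 2 = ⊥ →
      Function.Surjective (pu f (spMap t (Ideal.Quotient.mkₐ R I))))
    (c : Pic (PicF.XT f (spO t B))) (hl : Etale (RelGrp.cm φ c).left) : Algebra.FormallySmooth R B := by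
  apply Algebra.FormallySmooth.of_comp_surjective
  intro C _ _ I hI g
  obtain ⟨η, hη⟩ := hL C I hI (pu f (spMap t g) c)
  have h1 : spMap t (Ideal.Quotient.mkₐ R I) ≫ RelGrp.cm φ η = spMap t g ≫ RelGrp.cm φ c := by
    rw [← RelGrp.cm_pu hφ, hη, RelGrp.cm_pu hφ]
  have := surjective_spMap t I hI
  obtain ⟨l, ⟨hl1, hl2⟩, -⟩ := Groth.Agent.S5075.result (RelGrp.cm φ c).left (RelGrp.cm φ η).left
    (spMap t (Ideal.Quotient.mkₐ R I)).left (spMap t g).left
    (by
      have := congrArg (fun k => k.left) h1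
      exact this.symm)
  obtain ⟨ψ, hψ⟩ : ∃ ψ : CommRingCat.of B ⟶ CommRingCat.of C, Spec.map ψ = l := Spec.map_surjective l
  subst hψ
  have h2 : Spec.map ψ ≫ Spec.map (CommRingCat.ofHom (algebraMap R B)) =
      Spec.map (CommRingCat.ofHom (algebraMap R C)) := by
    rw [← cancel_mono t, Category.assoc]
    have h3 : Spec.map ψ ≫ (spO t B).hom = (spO t C).hom := by
      rw [← Over.w (RelGrp.cm φ c), ← Over.w (RelGrp.cm φ η), ← hl1, Category.assoc]
    exact h3
  have h3 : CommRingCat.ofHom (algebraMap R B) ≫ ψ = CommRingCat.ofHom (algebraMap R C) := by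
    apply Spec.map_injective
    rw [Spec.map_comp]
    exact h2
  have h4 : ψ ≫ CommRingCat.ofHom (Ideal.Quotient.mkₐ R I).toRingHom = CommRingCat.ofHom g.toRingHom := by
    apply Spec.map_injective
    rw [Spec.map_comp]
    exact hl2
  refine ⟨{ ψ.hom with commutes' := fun r => congr(($h3).hom r) }, ?_⟩
  ext b
  exact congr(($h4).hom b)

/-- The general smoothness criterion: classes lift along square-zero thickenings of affine schemes. -/
theorem smooth_of_lift [QuasiCompact f] [QuasiSeparated f]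
    (hL : ∀ (R C : Type u) [CommRing R] [CommRing C] [Algebra R C] (t : Spec (CommRingCat.of R) ⟶ S)
      [IsOpenImmersion t] (I : Ideal C), I ^ 2 = ⊥ →
      Function.Surjective (pu f (spMap t (Ideal.Quotient.mkₐ R I)))) : Smooth P.hom := by
  obtain ⟨𝒰, c, hc⟩ := RelGrp.exists_cm hφ (𝟙 P)
  let p : (∐ fun i => (𝒰.V i).left) ⟶ P.left := Sigma.desc fun i => (𝒰.j i).left
  have hι : ∀ i, Sigma.ι (fun i => (𝒰.V i).left) i ≫ p = (𝒰.j i).left := fun i => Sigma.ι_desc _ _
  have hs : Surjective p := by
    constructor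
    intro y
    obtain ⟨i, v, hv⟩ := 𝒰.covers y
    refine ⟨Sigma.ι (fun i => (𝒰.V i).left) i v, ?_⟩
    rw [← Scheme.Hom.comp_apply, hι, hv]
  have he : Etale p := by
    rw [IsZariskiLocalAtSource.iff_of_openCover (P := (@Etale : MorphismProperty Scheme.{u})) (sigmaOpenCover _)]
    intro i
    change Etale (Sigma.ι (fun i => (𝒰.V i).left) i ≫ p)
    rw [hι i]
    infer_instance
  have hl : Smooth (p ≫ P.hom) := by
    rw [IsZariskiLocalAtSource.iff_of_openCover (P := (@Smooth : MorphismProperty Scheme.{u})) (sigmaOpenCover _)]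
    intro i
    change Smooth (Sigma.ι (fun i => (𝒰.V i).left) i ≫ p ≫ P.hom)
    rw [← Category.assoc, hι i, Over.w]
    rw [HasRingHomProperty.iff_appLE (P := @Smooth)]
    intro U V e
    let ψ : Γ(S, U) ⟶ Γ((𝒰.V i).left, V) := (𝒰.V i).hom.appLE U V e
    let t : Spec (CommRingCat.of Γ(S, U)) ⟶ S := U.2.fromSpec
    have ht : IsOpenImmersion t := U.2.isOpenImmersion_fromSpec
    let w : Spec (CommRingCat.of Γ((𝒰.V i).left, V)) ⟶ (𝒰.V i).left := V.2.fromSpec
    have hw : IsOpenImmersion w := V.2.isOpenImmersion_fromSpec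
    let _ : Algebra Γ(S, U) Γ((𝒰.V i).left, V) := ψ.hom.toAlgebra
    let g : spO t Γ((𝒰.V i).left, V) ⟶ 𝒰.V i := Over.homMk w
      (IsAffineOpen.SpecMap_appLE_fromSpec (𝒰.V i).hom U.2 V.2 e).symm
    have h1 : RelGrp.cm φ (pu f g (c i)) = g ≫ 𝒰.j i := by
      rw [RelGrp.cm_pu hφ, hc, Category.comp_id]
    have h2 : Etale (RelGrp.cm φ (pu f g (c i))).left := by
      rw [h1]
      change Etale (w ≫ (𝒰.j i).left)
      infer_instance
    have h3 : LocallyOfFinitePresentation (RelGrp.cm φ (pu f g (c i))).left := inferInstance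
    have h4 := K440.FpClass.finitePresentation_of_class t f hφ (pu f g (c i)) h3
    have h5 := formallySmooth_of_class hφ t (fun C _ _ I hI => hL _ C t I hI) (pu f g (c i)) h2
    have h6 : Algebra.Smooth Γ(S, U) Γ((𝒰.V i).left, V) := ⟨h5, h4⟩
    exact RingHom.smooth_algebraMap.mpr h6
  exact Groth.Agent.S0115.result p P.hom

end K440.PicSmooth
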