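import Groth.Agent.Biell.K440.PicSmooth
import Groth.Agent.Flat2G.StructHH

/-!
# Smoothness of the Picard scheme from the vanishing of `H^n(X_s, O)`, `n ≥ 2`

Any base. Also the infinitesimal lifting of invertible classes for families with `H^n(X_s, O) = 0`, `n ≥ 2`.
-/

set_option autoImplicit false
universe u

open CategoryTheory CategoryTheory.Limits AlgebraicGeometry Opposite
open Groth.Agent.Ega2.LimPic
open Groth.Agent.Ega3A.PicDiv Groth.Agent.Ega3A.PicEtSh Groth.Agent.Grpsch.PicGrp
open Groth.Agent.Ega3A.PicSheaf Groth.Agent.Ega3A.PicLocBase Groth.Agent.Fga.RigGrp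
open Groth.Agent.Pic13.H965

namespace K440.PicSmooth

/-- `H^n(X_s, O) = 0` for all `n ≥ 2` and all geometric points. -/
def Van {X S : Scheme.{u}} (f : X ⟶ S) : Prop :=
  ∀ (Ω : Type u) [Field Ω] [IsAlgClosed Ω] (s : Spec (CommRingCat.of Ω) ⟶ S) (n : ℕ), 2 ≤ n →
    Subsingleton (Coh.HH (pullback f s) (Coh.structureModule _) n)

theorem Van.of_isPullback {X S Y T : Scheme.{u}} {f : X ⟶ S} (h : Van f) {g : Y ⟶ X} {f' : Y ⟶ T} {b : T ⟶ S}
    (H : IsPullback g f' f b) : Van f' := by
  intro Ω _ _ s n hn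
  have H1 : IsPullback (pullback.fst f' s ≫ g) (pullback.snd f' s) f (s ≫ b) :=
    (IsPullback.of_hasPullback f' s).paste_horiz H
  exact (Groth.Agent.Flat2G.StructHH.HH_iso_iff H1.isoPullback n).mpr (h Ω (s ≫ b) n hn)

variable {S X : Scheme.{u}} {f : X ⟶ S} [IsProper f] [Flat f] [LocallyOfFinitePresentation f]

/-- Lifting of classes along square-zero thickenings of affine `S`-schemes. -/
theorem pu_surjective (h : Van f) {R C : Type u} [CommRing R] [CommRing C] [Algebra R C]
    (t : Spec (CommRingCat.of R) ⟶ S) (I : Ideal C) (hI : I ^ 2 = ⊥) :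
    Function.Surjective (pu f (spMap t (Ideal.Quotient.mkₐ R I))) := by
  have H0 : IsPullback (pullback.fst f (spO t C).hom) (PicF.XTproj f (spO t C)) f (spO t C).hom :=
    IsPullback.of_hasPullback f (spO t C).hom
  have h1 : IsProper (PicF.XTproj f (spO t C)) := MorphismProperty.of_isPullback H0 inferInstance
  have h2 : Flat (PicF.XTproj f (spO t C)) := MorphismProperty.of_isPullback H0 inferInstance
  have h3 : LocallyOfFinitePresentation (PicF.XTproj f (spO t C)) :=
    MorphismProperty.of_isPullback H0 inferInstance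
  have H := Groth.Agent.Picfga.HilbPull.isPullback_XTmap f (spMap t (Ideal.Quotient.mkₐ R I))
  have : IsAffine (spO t C).left := inferInstanceAs (IsAffine (Spec _))
  refine K440.PicLift.pull_surjective H ?_ (h.of_isPullback H0)
  have h4 : (spMap t (Ideal.Quotient.mkₐ R I)).left.ker.ideal ⟨⊤, isAffineOpen_top _⟩ =
      I.map (Scheme.ΓSpecIso (CommRingCat.of C)).inv.hom := by
    have h5 := K695.ClFib.ker_specMap_ideal (Ideal.Quotient.mk I)
    rw [Ideal.mk_ker] at h5
    exact h5
  rw [h4, ← Ideal.map_pow, hI, Ideal.map_bot]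

/-- **Smoothness of the Picard scheme.** -/
theorem smooth_hom {P : Over S} (hP : PicRel.RepresentedBy f P) (h : Van f) : Smooth P.hom := by
  obtain ⟨φ, hφ⟩ := hP
  exact smooth_of_lift hφ (fun R C _ _ _ t _ I hI => pu_surjective h t I hI)

end K440.PicSmooth
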