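import Groth.Agent.Biell.K440.SmoothClass
import Groth.Agent.Biell.K440.GlueDisj
import Groth.Agent.Sga3.H767.OfEff
import Groth.Agent.FlatA.EtaleSections
import Groth.Agent.S1495

/-!
# Polarisations exist étale locally

`R` Noetherian, `π : X ⟶ Spec R` proper and flat, such that every geometric fibre has an ample invertible sheaf
and `H²(X_s, O) = 0`. There is an étale surjective `g : S' ⟶ Spec R` such that `X ×_R S'` has a relatively ample
invertible sheaf.
-/

set_option autoImplicit false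
universe u

open CategoryTheory CategoryTheory.Limits AlgebraicGeometry Opposite IsLocalRing
open Groth.Agent.Ega2.LimPic
open Groth.Agent.Ega3A.PicDiv Groth.Agent.Grpsch.PicGrp

namespace K440.Polar

/-- One point of the base, with a model over a G-ring. -/
theorem exists_local_of_model {B : Type u} [CommRing B] (hB : CAlg.IsGRing B) {X₀ : Scheme.{u}}
    (f : X₀ ⟶ Spec (CommRingCat.of B)) [IsProper f] [Flat f] {X S : Scheme.{u}} {π : X ⟶ S}
    {q : X ⟶ X₀} {r : S ⟶ Spec (CommRingCat.of B)} (H : IsPullback q π f r)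
    {Ω : Type u} [Field Ω] (s : Spec (CommRingCat.of Ω) ⟶ S)
    (hamp : ∃ L : (pullback π s).Modules, CohB1.IsAmple L)
    (h2 : Subsingleton (Coh.HH (pullback π s) (Coh.structureModule _) 2)) :
    ∃ (T : Scheme.{u}) (g : T ⟶ S) (t : T), Etale g ∧ g t = s (closedPoint Ω) ∧
      ∃ L : (pullback π g).Modules, RelAmple.IsRelAmple (pullback.snd π g) L := by
  have hN : IsNoetherianRing B := hB.1
  obtain ⟨φ, hφ⟩ : ∃ φ : CommRingCat.of B ⟶ CommRingCat.of Ω, Spec.map φ = s ≫ r := Spec.map_surjective _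
  let _ : Algebra B Ω := φ.hom.toAlgebra
  have hΩ : (spO (𝟙 (Spec (CommRingCat.of B))) Ω).hom = s ≫ r := by
    rw [← hφ]
    exact Category.comp_id _
  have H1 : IsPullback (pullback.fst π s ≫ q) (pullback.snd π s) f (spO (𝟙 (Spec (CommRingCat.of B))) Ω).hom := by
    rw [hΩ]
    exact (IsPullback.of_hasPullback π s).paste_horiz H
  have hsub : Subsingleton (Coh.HH (PicF.XT f (spO (𝟙 _) Ω)) (Coh.structureModule _) 2) :=
    (Groth.Agent.Flat2G.StructHH.HH_iso_iff H1.isoPullback 2).mp h2
  obtain ⟨A, hA⟩ := hamp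
  have hA1 : CohB1.IsAmple ((Scheme.Modules.pullback H1.isoPullback.inv).obj A) := by
    have := Groth.Agent.Models2.AmplePull.isAmple_pullback_iff_of_isIso H1.isoPullback.inv (𝟙 _) A
    rw [Category.comp_id] at this
    rw [this]
    exact Groth.Agent.Models2.AmplePull.isAmple_of_iso ((Scheme.Modules.pullbackId _).app A).symm hA
  have hAinv : PicF.IsInvertible ((Scheme.Modules.pullback H1.isoPullback.inv).obj A) := hA1.1
  obtain ⟨D, _, _, hD, δ, η, hη⟩ := K440.SmoothClass.exists_smooth_class f hB hsub (mk _ hAinv)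
  obtain ⟨L, hL, rfl⟩ := exists_mk η
  rw [pull_mk, mk_eq_iff] at hη
  obtain ⟨e⟩ := hη
  have H2 := Groth.Agent.Picfga.HilbPull.isPullback_XTmap f (spMap (𝟙 _) δ)
  have H3 : IsPullback (pullback.fst f (spO (𝟙 _) D).hom) (PicF.XTproj f (spO (𝟙 _) D)) f (spO (𝟙 _) D).hom :=
    IsPullback.of_hasPullback _ _
  have i1 : IsProper (PicF.XTproj f (spO (𝟙 _) D)) := MorphismProperty.of_isPullback H3 inferInstance
  let p := PicF.XTproj f (spO (𝟙 _) D)
  let x : Spec (CommRingCat.of Ω) ⟶ Spec (CommRingCat.of D) := (spMap (𝟙 _) δ).left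
  have h3 : CohB1.IsAmple ((Scheme.Modules.pullback (p.fiberι (x (closedPoint Ω)))).obj L) := by
    refine K440.GlueDisj.isAmple_fiber p hL x H2 ?_
    exact Groth.Agent.Models2.AmplePull.isAmple_of_iso e.symm hA1
  obtain ⟨V, hxV, hV⟩ := Groth.Agent.S1495.result p L hL (x (closedPoint Ω)) h3
  let w : V.toScheme ⟶ Spec (CommRingCat.of B) := V.ι ≫ (spO (𝟙 _) D).hom
  have hsm : Smooth (spO (𝟙 (Spec (CommRingCat.of B))) D).hom := by
    change Smooth (Spec.map _ ≫ 𝟙 _)
    rw [Category.comp_id, HasRingHomProperty.Spec_iff (P := @Smooth)]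
    exact RingHom.smooth_algebraMap.mpr hD
  have hw : Smooth w := inferInstance
  let Y := pullback w r
  have hq : Smooth (pullback.snd w r) := inferInstance
  have hxV' : Set.range x ⊆ Set.range V.ι := by
    rintro _ ⟨y, rfl⟩
    have : y = closedPoint Ω := Subsingleton.elim _ _
    rw [this, Scheme.Opens.range_ι]
    exact hxV
  let xV : Spec (CommRingCat.of Ω) ⟶ V.toScheme := IsOpenImmersion.lift V.ι x hxV'
  have hxw : xV ≫ w = s ≫ r := by
    rw [← hΩ, ← Category.assoc, IsOpenImmersion.lift_fac]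
    exact Over.w (spMap (𝟙 _) δ)
  have hrange : s (closedPoint Ω) ∈ Set.range (pullback.snd w r) := by
    refine ⟨(pullback.lift xV s hxw) (closedPoint Ω), ?_⟩
    rw [← Scheme.Hom.comp_apply, pullback.lift_snd]
  obtain ⟨T, g, t, hg, hgt, h, hh⟩ :=
    Groth.Agent.FlatA.EtaleSections.exists_section (pullback.snd w r) (s (closedPoint Ω)) hrange
  refine ⟨T, g, t, hg, hgt, ?_⟩
  have H4 : IsPullback ((p ⁻¹ᵁ V).ι ≫ pullback.fst f (spO (𝟙 _) D).hom) (p ∣_ V) f w :=
    (isPullback_morphismRestrict p V).flip.paste_horiz H3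
  have H5 : IsPullback (pullback.fst π g ≫ q) (pullback.snd π g) f ((h ≫ pullback.fst w r) ≫ w) := by
    have h6 : (h ≫ pullback.fst w r) ≫ w = g ≫ r := by
      rw [Category.assoc, pullback.condition, ← Category.assoc, hh]
    rw [h6]
    exact (IsPullback.of_hasPullback π g).paste_horiz H
  exact ⟨_, K119.RelAmpInd.isRelAmple_of_isPullback (IsPullback.of_right' H5 H4) hV⟩

/-- **Étale local polarisations.** -/
theorem exists_etale_cover {R : Type u} [CommRing R] [IsNoetherianRing R] {X : Scheme.{u}}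
    (π : X ⟶ Spec (CommRingCat.of R)) [IsProper π] [Flat π]
    (hamp : ∀ (Ω : Type u) [Field Ω] [IsAlgClosed Ω] (s : Spec (CommRingCat.of Ω) ⟶ Spec (CommRingCat.of R)),
      ∃ L : (pullback π s).Modules, CohB1.IsAmple L)
    (h2 : ∀ (Ω : Type u) [Field Ω] [IsAlgClosed Ω] (s : Spec (CommRingCat.of Ω) ⟶ Spec (CommRingCat.of R)),
      Subsingleton (Coh.HH (pullback π s) (Coh.structureModule _) 2)) :
    ∃ (S' : Scheme.{u}) (g : S' ⟶ Spec (CommRingCat.of R)), Etale g ∧ Surjective g ∧
      ∃ L : (pullback π g).Modules, RelAmple.IsRelAmple (pullback.snd π g) L := by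
  have hN : IsLocallyNoetherian (Spec (CommRingCat.of R)) := by
    have : IsNoetherianRing (CommRingCat.of R) := ‹_›
    infer_instance
  have hlfp : LocallyOfFinitePresentation π := inferInstance
  have key : ∀ y : Spec (CommRingCat.of R), ∃ (T : Scheme.{u}) (g : T ⟶ Spec (CommRingCat.of R)) (t : T),
      Etale g ∧ g t = y ∧ ∃ L : (pullback π g).Modules, RelAmple.IsRelAmple (pullback.snd π g) L := by
    intro y
    let D := Groth.Agent.Flat2D.SpecFGLimit.specDiagram R
    let c := Groth.Agent.Flat2D.SpecFGLimit.specCone R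
    let π' : X ⟶ c.pt := π
    have h1 : IsProper π' := ‹IsProper π›
    have h2' : Flat π' := ‹Flat π›
    have h3 : LocallyOfFinitePresentation π' := hlfp
    obtain ⟨j, Xj, fj, q, hpr, hfl, Hj⟩ := Groth.Agent.PerfA.FlatH0Local.exists_descent D c
      (Groth.Agent.Flat2D.SpecFGLimit.isLimitSpecCone R) X π'
    have hft : Algebra.FiniteType ℤ j.unop.1 := (Subalgebra.fg_iff_finiteType _).1 j.unop.2
    have hG : CAlg.IsGRing j.unop.1 := Groth.Agent.Sga3.H767.OfEff.isGRing_of_finiteType_int _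
    let Ω := AlgebraicClosure ((Spec (CommRingCat.of R)).residueField y)
    let s : Spec (CommRingCat.of Ω) ⟶ Spec (CommRingCat.of R) :=
      Spec.map (CommRingCat.ofHom (algebraMap ((Spec (CommRingCat.of R)).residueField y) Ω)) ≫
        (Spec (CommRingCat.of R)).fromSpecResidueField y
    have hs : s (closedPoint Ω) = y := by
      rw [Scheme.Hom.comp_apply]
      exact Scheme.fromSpecResidueField_apply _ _
    have h4 := @exists_local_of_model j.unop.1 _ hG Xj fj hpr hfl X (Spec (CommRingCat.of R)) π q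
      (c.π.app j) Hj Ω _ s (hamp Ω s) (h2 Ω s)
    rwa [hs] at h4
  choose T g t hg hgt hL using key
  refine ⟨∐ T, Sigma.desc g, ?_, ?_, K440.GlueDisj.exists_relAmple_sigma π g hL⟩
  · rw [IsZariskiLocalAtSource.iff_of_openCover (P := (@Etale : MorphismProperty Scheme.{u})) (sigmaOpenCover _)]
    intro y
    change Etale (Sigma.ι T y ≫ Sigma.desc g)
    rw [Sigma.ι_desc]
    exact hg y
  · constructor
    intro y
    refine ⟨Sigma.ι T y (t y), ?_⟩
    rw [← Scheme.Hom.comp_apply, Sigma.ι_desc, hgt]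

end K440.Polar
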