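import Groth.Agent.Ega3B.AcycNbhdAlg
import Mathlib.RingTheory.Localization.BaseChange

/-!
# Complexes of flat modules exact in large degrees

Versions in degrees `> m` of the results of `Ega3B.AcyclicAlg` and `Ega3B.AcycNbhdAlg`.
-/

set_option autoImplicit false

open TensorProduct

namespace K440.ShiftAlg

open Groth.Agent.Ega3B.AcyclicAlg Groth.Agent.Ega3B.AcycNbhdAlg

universe u v

variable {A : Type u} [CommRing A] {C : ℕ → Type u} [∀ n, AddCommGroup (C n)]
  [∀ n, Module A (C n)] (d : ∀ n, C n →ₗ[A] C (n + 1)) (hd : ∀ n x, d (n + 1) (d n x) = 0)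
  (m : ℕ)

variable {d} in
/-- Exactness in degrees `> m` is preserved by tensor products. -/
theorem lTensor_exact (hex : ∀ n, m ≤ n → Function.Exact (d n) (d (n + 1)))
    (hflat : ∀ n, Module.Flat A (C n)) (N : ℕ) (hN : ∀ n, N ≤ n → Subsingleton (C n))
    (M : Type u) [AddCommGroup M] [Module A M] (n : ℕ) (hn : m ≤ n) :
    Function.Exact ((d n).lTensor M) ((d (n + 1)).lTensor M) := by
  obtain ⟨k, rfl⟩ := Nat.exists_eq_add_of_le hn
  exact lTensor_exact_of_exact (C := fun k => C (m + k)) (d := fun k => d (m + k))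
    (fun k => hex (m + k) (by omega)) M (fun k => hflat _) N (fun k hk => hN _ (by omega)) k

include hd in
/-- If `a` kills the cohomology of `C` in degrees `> m`, then powers of `a` kill the cohomology classes of
`M ⊗ C` in degrees `> m`. -/
theorem exists_pow (hflat : ∀ n, Module.Flat A (C n)) (N : ℕ) (hN : ∀ n, N ≤ n → Subsingleton (C n))
    (M : Type u) [AddCommGroup M] [Module A M] (a : A)
    (hk : ∀ n, m ≤ n → ∀ x, d (n + 1) x = 0 → ∃ y, d n y = a • x) (n : ℕ) (hn : m ≤ n)
    (x : M ⊗[A] C (n + 1)) (hx : (d (n + 1)).lTensor M x = 0) :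
    ∃ (k : ℕ) (y : M ⊗[A] C n), (d n).lTensor M y = a ^ k • x := by
  let R := Localization.Away a
  have hex : ∀ n, m ≤ n → Function.Exact ((d n).lTensor R) ((d (n + 1)).lTensor R) := fun n hn =>
    lTensor_exact_of_kill d R n a (IsLocalization.Away.algebraMap_isUnit a) (hk n hn) hd
  have h1 := lTensor_exact (C := fun n => R ⊗[A] C n) (d := fun n => (d n).lTensor R) m hex
    (fun n => by have := hflat n; infer_instance) N (fun n hn => by have := hN n hn; infer_instance) M n hn
  have h5 : ∀ n (x : M ⊗[A] (R ⊗[A] C n)),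
      TensorProduct.leftComm A M R (C (n + 1)) ((((d n).lTensor R).lTensor M) x) =
      (((d n).lTensor M).lTensor R) (TensorProduct.leftComm A M R (C n) x) := by
    intro n x
    have : (TensorProduct.leftComm A M R (C (n + 1))).toLinearMap ∘ₗ (((d n).lTensor R).lTensor M) =
        (((d n).lTensor M).lTensor R) ∘ₗ (TensorProduct.leftComm A M R (C n)).toLinearMap := by
      ext; simp
    exact LinearMap.congr_fun this x
  obtain ⟨z, hz⟩ := (h1 ((TensorProduct.leftComm A M R _).symm (1 ⊗ₜ x))).mp (by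
    apply (TensorProduct.leftComm A M R _).injective
    rw [h5, LinearEquiv.apply_symm_apply, LinearMap.lTensor_tmul, hx, TensorProduct.tmul_zero, map_zero])
  have hz' : ((d n).lTensor M).lTensor R (TensorProduct.leftComm A M R _ z) = 1 ⊗ₜ x := by
    rw [← h5, hz, LinearEquiv.apply_symm_apply]
  obtain ⟨⟨y, s⟩, hy⟩ := IsLocalizedModule.surj (Submonoid.powers a)
    (TensorProduct.mk A R (M ⊗[A] C n) 1) (TensorProduct.leftComm A M R _ z)
  obtain ⟨_, k, rfl⟩ := s
  have h2 : (TensorProduct.mk A R (M ⊗[A] C (n + 1)) 1) ((d n).lTensor M y) =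
      (TensorProduct.mk A R (M ⊗[A] C (n + 1)) 1) (a ^ k • x) := by
    have h3 := congrArg (((d n).lTensor M).lTensor R) hy
    have h4 : ((d n).lTensor M).lTensor R (a ^ k • (TensorProduct.leftComm A M R _ z)) =
      a ^ k • (1 : R) ⊗ₜ x := by rw [map_smul, hz']
    change ((d n).lTensor M).lTensor R (a ^ k • _) = _ at h3
    rw [h4, TensorProduct.mk_apply, LinearMap.lTensor_tmul] at h3
    rw [TensorProduct.mk_apply, TensorProduct.mk_apply, ← h3, TensorProduct.tmul_smul]
  obtain ⟨⟨_, l, rfl⟩, hl⟩ := IsLocalizedModule.exists_of_eq (S := Submonoid.powers a) h2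
  refine ⟨l + k, a ^ l • y, ?_⟩
  rw [map_smul, pow_add, mul_smul]
  exact hl

include hd in
/-- If near every maximal ideal of `B` the cohomology of `C` in degrees `> m` is killed, then `B ⊗ C` is exact in
degrees `> m`. -/
theorem lTensor_exact_of_local (hflat : ∀ n, Module.Flat A (C n)) (N : ℕ)
    (hN : ∀ n, N ≤ n → Subsingleton (C n)) (B : Type u) [CommRing B] [Algebra A B]
    (hk : ∀ P : Ideal B, P.IsMaximal → ∃ a : A, algebraMap A B a ∉ P ∧
      ∀ n, m ≤ n → ∀ x, d (n + 1) x = 0 → ∃ y, d n y = a • x) (n : ℕ) (hn : m ≤ n) :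
    Function.Exact ((d n).lTensor B) ((d (n + 1)).lTensor B) := by
  intro x
  constructor
  · intro hx
    let J : Ideal B :=
      { carrier := {b | ∃ y, (d n).lTensor B y = b • x}
        add_mem' := by
          rintro b c ⟨y, hy⟩ ⟨z, hz⟩
          exact ⟨y + z, by rw [map_add, hy, hz, add_smul]⟩
        zero_mem' := ⟨0, by rw [map_zero, zero_smul]⟩
        smul_mem' := by
          rintro c b ⟨y, hy⟩
          refine ⟨c • y, ?_⟩
          have h1 : (d n).lTensor B (c • y) = c • (d n).lTensor B y :=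
            ((d n).baseChange B).map_smul c y
          rw [h1, hy, smul_smul, smul_eq_mul] }
    have hJ : J = ⊤ := by
      by_contra hne
      obtain ⟨P, hP, hle⟩ := Ideal.exists_le_maximal J hne
      obtain ⟨a, ha, h⟩ := hk P hP
      obtain ⟨k, y, hy⟩ := exists_pow d hd m hflat N hN B a h n hn x hx
      have h1 : algebraMap A B a ^ k ∈ J := ⟨y, by rw [hy, ← map_pow, algebraMap_smul]⟩
      exact ha (hP.isPrime.mem_of_pow_mem k (hle h1))
    have h1 : (1 : B) ∈ J := by rw [hJ]; trivial
    obtain ⟨y, hy⟩ := h1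
    exact ⟨y, by rw [hy, one_smul]⟩
  · rintro ⟨y, rfl⟩
    have : (d (n + 1)) ∘ₗ (d n) = 0 := LinearMap.ext fun x => hd n x
    rw [← LinearMap.lTensor_comp_apply, this, LinearMap.lTensor_zero, LinearMap.zero_apply]

include hd in
/-- Shifted version of `exists_kill'`. -/
theorem exists_kill {K : Type u} [CommRing K] [Algebra A K] (hKf : IsField K)
    (hflat : ∀ n, Module.Flat A (C n)) (N : ℕ)
    (hN : ∀ n, N ≤ n → Subsingleton (C n))
    (hfin : ∀ n, Module.Finite A (Coho d hd n))
    (hK : ∀ n, m ≤ n → Function.Exact ((d n).lTensor K) ((d (n + 1)).lTensor K)) :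
    ∃ a : A, algebraMap A K a ≠ 0 ∧ ∀ n, m ≤ n → ∀ x, d (n + 1) x = 0 → ∃ y, d n y = a • x := by
  obtain ⟨a, ha, h⟩ := exists_kill' (C := fun k => C (m + k)) (fun k => d (m + k))
    (fun k x => hd (m + k) x) hKf (fun k => hflat _) N (fun k hk => hN _ (by omega))
    (fun k => hfin (m + k)) (fun k => hK (m + k) (by omega))
  refine ⟨a, ha, fun n hn x hx => ?_⟩
  obtain ⟨k, rfl⟩ := Nat.exists_eq_add_of_le hn
  exact h k x hx

end K440.ShiftAlg
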