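import Groth.Agent.Biell.K440.FpClass
import Groth.Agent.Biell.K440.PicSmoothMain
import Groth.Agent.Sga3.H767.GRingFac
import Groth.Agent.S11763
import Groth.Agent.S0223
import Groth.Agent.Models2.AmplePull

/-!
# Classes over a geometric point come from smooth algebras

`B` a G-ring, `f : X ⟶ Spec B` proper and flat, `Ω` a `B`-algebra, a field, with `H²(X_Ω, O) = 0`. Every invertible
class on `X_Ω` comes from a class on `X_D` for a smooth `B`-algebra `D` mapping to `Ω`.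
-/

set_option autoImplicit false
universe u

open CategoryTheory CategoryTheory.Limits AlgebraicGeometry Opposite IsLocalRing
open Groth.Agent.Ega2.LimPic
open Groth.Agent.Ega3A.PicDiv Groth.Agent.Grpsch.PicGrp Groth.Agent.Proet.FacM
open Groth.Agent.Sga3.H767.GRingFac

namespace K440.SmoothClass

theorem pu_comp {X S : Scheme.{u}} (f : X ⟶ S) {T T' T'' : Over S} (h : T'' ⟶ T') (g : T' ⟶ T)
    (c : Pic (PicF.XT f T)) : pu f (h ≫ g) c = pu f h (pu f g c) := by
  have h1 := Groth.Agent.Picfga.HilbPull.XTmap_comp f h g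
  change pull (PicF.XTmap f (h ≫ g)) c = pull _ (pull _ c)
  rw [← pull_comp, h1]

theorem pu_spMap_comp {X S : Scheme.{u}} (f : X ⟶ S) {R : Type u} [CommRing R] (t : Spec (CommRingCat.of R) ⟶ S)
    {A B C : Type u} [CommRing A] [CommRing B] [CommRing C] [Algebra R A] [Algebra R B] [Algebra R C]
    (a : A →ₐ[R] B) (b : B →ₐ[R] C) (c : Pic (PicF.XT f (spO t A))) :
    pu f (spMap t (b.comp a)) c = pu f (spMap t b) (pu f (spMap t a) c) := by
  rw [← spMap_comp, pu_comp]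

variable {B : Type u} [CommRing B] {X : Scheme.{u}} (f : X ⟶ Spec (CommRingCat.of B)) [IsProper f]

/-- The residue map of a local `B`-algebra. -/
noncomputable def resₐ (C : Type u) [CommRing C] [IsLocalRing C] [Algebra B C] : C →ₐ[B] ResidueField C :=
  IsScalarTower.toAlgHom B C (ResidueField C)

theorem finrank_H {K Ω : Type u} [Field K] [Field Ω] [Algebra B K] [Algebra B Ω] (e : K →ₐ[B] Ω) (n : ℕ)
    (h : Subsingleton (Coh.HH (PicF.XT f (spO (𝟙 _) Ω)) (Coh.structureModule _) n)) :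
    Subsingleton (Coh.HH (PicF.XT f (spO (𝟙 _) K)) (Coh.structureModule _) n) := by
  let _ : Algebra K Ω := e.toRingHom.toAlgebra
  let _ : (PicF.XT f (spO (𝟙 _) K)).Over (Spec (CommRingCat.of K)) := ⟨PicF.XTproj f (spO (𝟙 _) K)⟩
  let _ : (PicF.XT f (spO (𝟙 _) Ω)).Over (Spec (CommRingCat.of Ω)) := ⟨PicF.XTproj f (spO (𝟙 _) Ω)⟩
  have H0 : IsPullback (pullback.fst f (spO (𝟙 _) K).hom) (PicF.XTproj f (spO (𝟙 _) K)) f (spO (𝟙 _) K).hom :=
    IsPullback.of_hasPullback _ _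
  have i1 : IsProper ((PicF.XT f (spO (𝟙 _) K)) ↘ (Spec (CommRingCat.of K))) :=
    MorphismProperty.of_isPullback H0 inferInstance
  have H := Groth.Agent.Picfga.HilbPull.isPullback_XTmap f (spMap (𝟙 _) e)
  have h1 := Groth.Agent.S0223.finrank_eq K (PicF.XT f (spO (𝟙 _) K)) Ω (PicF.XT f (spO (𝟙 _) Ω)) _ H n
  have h2 : Module.finrank Ω (Coh.HH (PicF.XT f (spO (𝟙 _) Ω)) (Coh.structureModule _) n) = 0 :=
    Module.finrank_zero_of_subsingleton
  rw [h2] at h1
  have hN : IsNoetherian (PicF.XT f (spO (𝟙 _) K)) := by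
    have h1 : IsLocallyNoetherian (PicF.XT f (spO (𝟙 _) K)) :=
      LocallyOfFiniteType.isLocallyNoetherian ((PicF.XT f (spO (𝟙 _) K)) ↘ (Spec (CommRingCat.of K)))
    have h2 : CompactSpace ↥(PicF.XT f (spO (𝟙 _) K)) :=
      QuasiCompact.compactSpace_of_compactSpace ((PicF.XT f (spO (𝟙 _) K)) ↘ (Spec (CommRingCat.of K)))
    exact {}
  have h4 : Module.Finite K (Coh.HH (PicF.XT f (spO (𝟙 _) K)) (Coh.structureModule _) n) :=
    Groth.Agent.S0002.result K _ _ (Groth.Agent.Fdesc.StructMod.isCoh_structureModule _) n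
  exact Module.finrank_zero_iff.mp h1.symm

theorem exists_lift (C : Type u) [CommRing C] [IsLocalRing C] [IsNoetherianRing C] [Algebra B C] [Flat f]
    [IsAdicComplete (maximalIdeal C) C]
    (h : Subsingleton (Coh.HH (PicF.XT f (spO (𝟙 _) (ResidueField C))) (Coh.structureModule _) 2)) :
    Function.Surjective (pu f (spMap (𝟙 _) (resₐ (B := B) C))) := by
  have H0 : IsPullback (pullback.fst f (spO (𝟙 _) C).hom) (PicF.XTproj f (spO (𝟙 _) C)) f (spO (𝟙 _) C).hom :=
    IsPullback.of_hasPullback _ _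
  have i1 : IsProper (PicF.XTproj f (spO (𝟙 _) C)) := MorphismProperty.of_isPullback H0 inferInstance
  have i2 : Flat (PicF.XTproj f (spO (𝟙 _) C)) := MorphismProperty.of_isPullback H0 inferInstance
  have H := Groth.Agent.Picfga.HilbPull.isPullback_XTmap f (spMap (𝟙 _) (resₐ (B := B) C))
  have H' : IsPullback (PicF.XTmap f (spMap (𝟙 _) (resₐ (B := B) C))) (PicF.XTproj f (spO (𝟙 _) (ResidueField C)))
    (PicF.XTproj f (spO (𝟙 _) C)) (Spec.map (CommRingCat.ofHom (IsLocalRing.residue C))) := H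
  have key := Groth.Agent.S11763.result C (PicF.XTproj f (spO (𝟙 _) C))
    ((Groth.Agent.Flat2G.StructHH.HH_iso_iff H'.isoPullback 2).mp h)
  intro c
  obtain ⟨L, hL, rfl⟩ := exists_mk c
  have e := H'.isoPullback
  have hL' : PicF.IsInvertible ((Scheme.Modules.pullback H'.isoPullback.inv).obj L) :=
    Groth.Agent.Models2.AmplePull.isInvertible_pullback H'.isoPullback.inv hL
  obtain ⟨M, hM, ⟨φ⟩⟩ := key _ hL'
  refine ⟨mk M hM, ?_⟩
  have h1 : pull (pullback.fst (PicF.XTproj f (spO (𝟙 _) C)) (Spec.map (CommRingCat.ofHom (IsLocalRing.residue C))))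
      (mk M hM) = pull H'.isoPullback.inv (mk L hL) := by
    rw [pull_mk, pull_mk]
    exact (mk_eq_iff _ _).mpr ⟨φ⟩
  change pull (PicF.XTmap f (spMap (𝟙 _) (resₐ (B := B) C))) (mk M hM) = mk L hL
  rw [← H'.isoPullback_hom_fst, pull_comp, h1, ← pull_comp, Iso.hom_inv_id, pull_id]

/-- **Classes over a field-valued point come from smooth algebras.** -/
theorem exists_smooth_class (hB : CAlg.IsGRing B) [Flat f] {Ω : Type u} [Field Ω] [Algebra B Ω]
    (h2 : Subsingleton (Coh.HH (PicF.XT f (spO (𝟙 _) Ω)) (Coh.structureModule _) 2))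
    (c : Pic (PicF.XT f (spO (𝟙 _) Ω))) :
    ∃ (D : Type u) (_ : CommRing D) (_ : Algebra B D) (_ : Algebra.Smooth B D) (δ : D →ₐ[B] Ω)
      (η : Pic (PicF.XT f (spO (𝟙 _) D))), pu f (spMap (𝟙 _) δ) η = c := by
  obtain ⟨W, _, _, hW, b, cW, hcW⟩ := K440.FpClass.exists_class (𝟙 _) f c
  obtain ⟨C, _, _, _, _, hC, hfac, c', e, he⟩ := exists_complete hB W b
  obtain ⟨ηC, hηC⟩ := exists_lift f C (finrank_H f e 2 h2) (pu f (spMap (𝟙 _) c') cW)
  obtain ⟨Z, _, _, hZ, σ, ηZ, hηZ⟩ := K440.FpClass.exists_class (𝟙 _) f ηC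
  obtain ⟨D, _, _, a, b', hD, hab⟩ := hfac Z σ
  refine ⟨D, inferInstance, inferInstance, hD, e.comp ((resₐ C).comp b'), pu f (spMap (𝟙 _) a) ηZ, ?_⟩
  rw [pu_spMap_comp, pu_spMap_comp, ← pu_spMap_comp f _ a b', hab, hηZ, hηC, ← pu_spMap_comp, he, hcW]

end K440.SmoothClass
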