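import Groth.Agent.Biell.K440.ShiftAlg
import Groth.Agent.Ega3B.AcycNbhd
import Groth.Agent.Ega3B.PullTensor
import Groth.Agent.Ega3B.EtAffine
import Groth.Agent.Fdesc.StructMod
import Groth.Agent.PerfA.FlatH0Local

/-!
# Vanishing of the cohomology of the structure sheaf in degrees `> m` from the geometric fibres

`f : X ⟶ T` proper, flat, locally of finite presentation, `T` affine (not necessarily Noetherian), with
`H^n(X_s, O) = 0` for `n > m` and all geometric points `s`. Then `H^n(X, O) = 0` for `n > m`.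
-/

set_option autoImplicit false
universe u
open CategoryTheory CategoryTheory.Limits AlgebraicGeometry Opposite TopologicalSpace TensorProduct

namespace K440.Vanish

open Groth.Agent.Ega3B
open CubeData CombRes Cube CechBC CechH0 AcyclicAlg AcycNbhdAlg AcyclicBC Groth.Agent.VarietyB.FlatH0
  Groth.Agent.VarietyB.BCAlg
open Groth.Agent.Fdesc

attribute [local instance 3000] LocExact.hasSheafify

theorem subsingleton_HH_pull {X Y : Scheme.{u}} (g : X ⟶ Y) (n : ℕ)
    (h : Subsingleton (Coh.HH X (Coh.structureModule X) n)) :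
    Subsingleton (Coh.HH X ((Scheme.Modules.pullback g).obj (Coh.structureModule Y)) n) :=
  AcycNbhd.subsingleton_HH_of_iso (PullTensor.nonempty_pullUnitIso g).some.symm n h

/-- A geometric point of an affine scheme over a maximal ideal of its ring of functions. -/
theorem exists_geomPoint {T : Scheme.{u}} [IsAffine T] (P : Ideal Γ(T, ⊤)) (hP : P.IsMaximal) :
    ∃ (Ω : Type u) (_ : Field Ω) (_ : IsAlgClosed Ω) (s : Spec (CommRingCat.of Ω) ⟶ T),
      ∀ b : Γ(T, ⊤), s.appTop b ≠ 0 → b ∉ P := by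
  let _ : Field (Γ(T, ⊤) ⧸ P) := Ideal.Quotient.field P
  let φ : Γ(T, ⊤) →+* AlgebraicClosure (Γ(T, ⊤) ⧸ P) :=
    (algebraMap (Γ(T, ⊤) ⧸ P) _).comp (Ideal.Quotient.mk P)
  refine ⟨AlgebraicClosure (Γ(T, ⊤) ⧸ P), inferInstance, inferInstance,
    Spec.map (CommRingCat.ofHom φ) ≫ T.isoSpec.inv, fun b hb hbP => hb ?_⟩
  have h1 : (Spec.map (CommRingCat.ofHom φ) ≫ T.isoSpec.inv).appTop ≫
      (Scheme.ΓSpecIso (CommRingCat.of (AlgebraicClosure (Γ(T, ⊤) ⧸ P)))).hom = CommRingCat.ofHom φ := by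
    have h2 : (Spec.map (CommRingCat.ofHom φ) ≫ T.isoSpec.inv) ≫ T.toSpecΓ =
        Spec.map (CommRingCat.ofHom φ) := by
      rw [Category.assoc, ← Scheme.isoSpec_hom, Iso.inv_hom_id, Category.comp_id]
    have h3 := congrArg (fun g => Scheme.Hom.appTop g) h2
    rw [Scheme.Hom.comp_appTop, Scheme.toSpecΓ_appTop] at h3
    rw [← cancel_epi (Scheme.ΓSpecIso Γ(T, ⊤)).hom, ← Category.assoc]
    refine (congrArg (· ≫ (Scheme.ΓSpecIso _).hom) h3).trans ?_
    exact Scheme.ΓSpecIso_naturality _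
  have h2 : φ b = 0 := by
    change algebraMap _ _ (Ideal.Quotient.mk P b) = 0
    rw [Ideal.Quotient.eq_zero_iff_mem.mpr hbP, map_zero]
  have h3 := congrArg (fun g => g.hom b) h1
  have h4 : (Scheme.ΓSpecIso (CommRingCat.of (AlgebraicClosure (Γ(T, ⊤) ⧸ P)))).hom
      ((Spec.map (CommRingCat.ofHom φ) ≫ T.isoSpec.inv).appTop b) = 0 := h3.trans h2
  exact (map_eq_zero_iff _ ((ConcreteCategory.bijective_of_isIso
    (Scheme.ΓSpecIso (CommRingCat.of (AlgebraicClosure (Γ(T, ⊤) ⧸ P)))).hom).1)).mp h4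

/-- Vanishing of the cohomology from the geometric fibres. -/
theorem subsingleton_HH {T X : Scheme.{u}} [IsAffine T] (f : X ⟶ T) [IsProper f] [Flat f]
    [LocallyOfFinitePresentation f] (m : ℕ)
    (h : ∀ (Ω : Type u) [Field Ω] [IsAlgClosed Ω] (s : Spec (CommRingCat.of Ω) ⟶ T) (n : ℕ), m ≤ n →
      Subsingleton (Coh.HH (pullback f s) (Coh.structureModule _) (n + 1))) (n : ℕ) (hn : m ≤ n) :
    Subsingleton (Coh.HH X (Coh.structureModule X) (n + 1)) := by
  obtain ⟨R, hR, Y, fY, q, -, hpr, hfl, Hq, -⟩ :=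
    Groth.Agent.PerfA.FlatH0Local.exists_stage_section (A := Γ(T, ⊤)) (f ≫ T.isoSpec.hom) 0
  let r : T ⟶ Spec (CommRingCat.of R) :=
    T.isoSpec.hom ≫ Spec.map (CommRingCat.ofHom (algebraMap R Γ(T, ⊤)))
  have H : IsPullback q f fY r := by
    have h1 : IsPullback (𝟙 X) f (f ≫ T.isoSpec.hom) T.isoSpec.hom :=
      IsPullback.of_horiz_isIso ⟨by simp⟩
    have h2 := h1.paste_horiz Hq
    rwa [Category.id_comp] at h2
  have h1 : CompactSpace Y := QuasiCompact.compactSpace_of_compactSpace fY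
  have h2 : Y.IsSeparated := by
    have : IsSeparated (terminal.from Y) := by
      have : terminal.from Y = fY ≫ terminal.from _ := terminal.hom_ext _ _
      rw [this]
      infer_instance
    exact ⟨this⟩
  have hlN : IsLocallyNoetherian (Spec (CommRingCat.of R)) := by
    have : IsNoetherianRing (CommRingCat.of R) := hR
    infer_instance
  have hYN : IsLocallyNoetherian Y := LocallyOfFiniteType.isLocallyNoetherian fY
  have hF : Coh.IsCoh (Coh.structureModule Y) := Groth.Agent.Fdesc.StructMod.isCoh_structureModule Y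
  obtain ⟨N, U, hcov, hU⟩ := exists_cover Y
  let i1 := fun n => modC fY (Coh.structureModule Y) U n
  have hflat : ∀ n, Module.Flat Γ(Spec (CommRingCat.of R), ⊤) (C (Coh.structureModule Y) U n) := fun n =>
    flat_C U _ hF.1 (EtAffine.isFlatOver_structureModule fY) hU n
  have hd : ∀ n (x : C (Coh.structureModule Y) U n), d fY (Coh.structureModule Y) U (n + 1)
      (d fY (Coh.structureModule Y) U n x) = 0 := fun n x =>
    (cech (X := Y.toPresheafedSpace.carrier) U).δ_δ n x
  have hN : ∀ n, Fintype.card (Fin N) ≤ n → Subsingleton (C (Coh.structureModule Y) U n) :=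
    fun n hn => subsingleton_C _ U n hn
  let i2 := algOver r (US := ⊤) (UT := ⊤) le_top
  have key := K440.ShiftAlg.lTensor_exact_of_local (d fY (Coh.structureModule Y) U) hd m hflat
    (Fintype.card (Fin N)) hN Γ(T, ⊤) (fun P hP => ?_) n hn
  · have h3 := (AcycNbhd.exact_iff H _ hF.1 U hcov hU n).mp key
    exact AcycNbhd.subsingleton_HH_of_iso (PullTensor.nonempty_pullUnitIso q).some (n + 1) h3
  · obtain ⟨Ω, _, _, s, hs⟩ := exists_geomPoint P hP
    let i3 := algOver (s ≫ r) (US := ⊤) (UT := ⊤) le_top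
    obtain ⟨a, ha, hk⟩ := K440.ShiftAlg.exists_kill (d fY (Coh.structureModule Y) U) hd m
      (K := Γ(Spec (CommRingCat.of Ω), ⊤)) (AcycNbhd.isField_spec Ω) hflat (Fintype.card (Fin N)) hN
      (fun n => AcycNbhd.finite_coho fY _ hF U hcov hU n)
      (fun n hn => (AcycNbhd.exact_iff ((IsPullback.of_hasPullback f s).paste_horiz H) _ hF.1 U hcov hU n).mpr
        (subsingleton_HH_pull _ _ (h Ω s n hn)))
    refine ⟨a, hs _ ?_, hk⟩
    have h4 : (s ≫ r).appLE ⊤ ⊤ le_top a = s.appTop (r.appLE ⊤ ⊤ le_top a) := by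
      rw [AcycNbhd.appLE_top, AcycNbhd.appLE_top, Scheme.Hom.comp_appTop]
      rfl
    intro h5
    exact ha (h4.trans h5)

end K440.Vanish
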